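import Mathlib
import Cfsg.Prelude.Def_ParabolicCharacters
import Cfsg.Agent.Lib.Characters.Generalized
import Cfsg.Agent.Lib.Characters.Induction
/-!
Permutation characters on cosets: they are characters, and their inner products count double cosets.
-/
set_option autoImplicit false

namespace CfsgLib.GLFlags

open scoped ComplexConjugate

variable {G : Type*} [Group G] [Finite G] (H K : Subgroup G)

/-- The permutation matrices of `G` on `G ⧸ H`. -/
noncomputable def cosetMat [Fintype (G ⧸ H)] [DecidableEq (G ⧸ H)] : G →* Matrix (G ⧸ H) (G ⧸ H) ℂ where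
  toFun g := Matrix.of fun x y => if g • y = x then 1 else 0
  map_one' := by
    ext x y
    simp [Matrix.one_apply, eq_comm]
  map_mul' g h := by
    ext x y
    simp [Matrix.mul_apply, mul_smul]

theorem isCharacter_fixedPointCharacter : Cfsg.IsCharacter G (Cfsg.fixedPointCharacter H) := by
  classical
  have := Fintype.ofFinite (G ⧸ H)
  convert CfsgLib.Induction.isCharacter_of_matrix (cosetMat H) using 1
  funext g
  simp only [Cfsg.fixedPointCharacter, Matrix.trace, Matrix.diag, cosetMat, MonoidHom.coe_mk,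
    OneHom.coe_mk, Matrix.of_apply, Finset.sum_boole, Nat.card_eq_fintype_card, Fintype.card_ofFinset]
  congr 1

theorem card_orbits_prod :
    Nat.card (MulAction.orbitRel.Quotient G ((G ⧸ H) × (G ⧸ K))) =
      Nat.card (DoubleCoset.Quotient (H : Set G) K) := by
  let f : G → MulAction.orbitRel.Quotient G ((G ⧸ H) × (G ⧸ K)) := fun g =>
    Quotient.mk'' ((QuotientGroup.mk 1 : G ⧸ H), (QuotientGroup.mk g : G ⧸ K))
  have hrel : ∀ p q : (G ⧸ H) × (G ⧸ K), (Quotient.mk'' p : MulAction.orbitRel.Quotient G _) =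
      Quotient.mk'' q ↔ ∃ u : G, u • q = p := fun p q => Quotient.eq''
  have hf : Function.Surjective f := by
    intro x
    obtain ⟨⟨a, b⟩, rfl⟩ := Quotient.mk''_surjective x
    obtain ⟨a, rfl⟩ := QuotientGroup.mk_surjective a
    obtain ⟨b, rfl⟩ := QuotientGroup.mk_surjective b
    refine ⟨a⁻¹ * b, (hrel _ _).2 ⟨a⁻¹, ?_⟩⟩
    simp only [Prod.smul_mk, MulAction.Quotient.smul_mk, smul_eq_mul, inv_mul_cancel]
  have hfib : ∀ g g', f g = f g' ↔ DoubleCoset.mk H K g = DoubleCoset.mk H K g' := by
    intro g g'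
    rw [eq_comm, DoubleCoset.eq, hrel]
    constructor
    · rintro ⟨u, hu⟩
      simp only [Prod.smul_mk, MulAction.Quotient.smul_mk, smul_eq_mul, mul_one, Prod.mk.injEq,
        QuotientGroup.eq] at hu
      exact ⟨u, by simpa using hu.1, (u * g)⁻¹ * g', hu.2, by group⟩
    · rintro ⟨a, ha, b, hb, rfl⟩
      refine ⟨a, ?_⟩
      simp only [Prod.smul_mk, MulAction.Quotient.smul_mk, smul_eq_mul, mul_one, Prod.mk.injEq,
        QuotientGroup.eq]
      exact ⟨H.inv_mem ha, by simpa [mul_assoc] using hb⟩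
  let e : Quotient (Setoid.ker f) ≃ Quotient (Setoid.ker (fun g : G => DoubleCoset.mk H K g)) :=
    Quotient.congrRight hfib
  exact Nat.card_congr (((Setoid.quotientKerEquivOfSurjective f hf).symm.trans e).trans
    (Setoid.quotientKerEquivOfSurjective _ Quotient.mk''_surjective))

theorem sum_fixed_mul [Fintype G] :
    (Nat.card G : ℂ)⁻¹ * ∑ g : G, Cfsg.fixedPointCharacter H g * Cfsg.fixedPointCharacter K g =
      (Nat.card (DoubleCoset.Quotient (H : Set G) K) : ℂ) := by
  classical
  have := Fintype.ofFinite (G ⧸ H)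
  have := Fintype.ofFinite (G ⧸ K)
  have := Fintype.ofFinite (MulAction.orbitRel.Quotient G ((G ⧸ H) × (G ⧸ K)))
  have hb := MulAction.sum_card_fixedBy_eq_card_orbits_mul_card_group G ((G ⧸ H) × (G ⧸ K))
  have hfix : ∀ g : G, Fintype.card (MulAction.fixedBy ((G ⧸ H) × (G ⧸ K)) g) =
      Nat.card (MulAction.fixedBy (G ⧸ H) g) * Nat.card (MulAction.fixedBy (G ⧸ K) g) := fun g => by
    rw [← Nat.card_eq_fintype_card, ← Nat.card_prod]
    exact Nat.card_congr
      { toFun := fun x => (⟨x.1.1, congrArg Prod.fst x.2⟩, ⟨x.1.2, congrArg Prod.snd x.2⟩)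
        invFun := fun x => ⟨(x.1.1, x.2.1), Prod.ext x.1.2 x.2.2⟩
        left_inv := fun _ => rfl
        right_inv := fun _ => rfl }
  simp only [hfix] at hb
  rw [← Nat.card_eq_fintype_card, card_orbits_prod H K, ← Nat.card_eq_fintype_card] at hb
  simp only [Cfsg.fixedPointCharacter]
  simp only [← Nat.cast_mul, ← Nat.cast_sum, hb]
  push_cast
  have : (Nat.card G : ℂ) ≠ 0 := Nat.cast_ne_zero.2 Nat.card_pos.ne'
  field_simp

theorem classInner_fixedPointCharacter [Fintype G] :
    Cfsg.classInner (Cfsg.fixedPointCharacter H) (Cfsg.fixedPointCharacter K) =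
      (Nat.card (DoubleCoset.Quotient (H : Set G) K) : ℂ) := by
  rw [← sum_fixed_mul H K]
  simp [Cfsg.classInner, Cfsg.fixedPointCharacter]

omit [Finite G] in
theorem fixedPointCharacter_one : Cfsg.fixedPointCharacter H 1 = (H.index : ℂ) := by
  simp [Cfsg.fixedPointCharacter, MulAction.fixedBy, Subgroup.index, Nat.card_congr (Equiv.Set.univ (G ⧸ H))]

end CfsgLib.GLFlags
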