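import Mathlib
import Cfsg.Prelude.Def_LinearParabolics
/-!
Block labels of compositions, permutation matrices and tables with prescribed margins.
-/
set_option autoImplicit false

namespace CfsgLib.GLFlags

open Finset

variable {n : ℕ}

/-- Partial sums `μ 0 + ⋯ + μ (s-1)`. -/
def psum (μ : Fin n → ℕ) (s : ℕ) : ℕ := ∑ k ∈ univ.filter (fun k : Fin n => k.val < s), μ k

theorem psum_succ (μ : Fin n → ℕ) (t : Fin n) : psum μ (t.val + 1) = psum μ t.val + μ t := by
  unfold psum
  rw [show univ.filter (fun k : Fin n => k.val < t.val + 1) =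
      insert t (univ.filter (fun k : Fin n => k.val < t.val)) from ?_, sum_insert (by simp), add_comm]
  ext k
  simp [Fin.ext_iff]
  omega

theorem psum_le (μ : Fin n → ℕ) (s : ℕ) : psum μ s ≤ ∑ k, μ k :=
  sum_le_sum_of_subset (filter_subset _ _)

theorem psum_all (μ : Fin n → ℕ) : psum μ n = ∑ k, μ k := by
  unfold psum
  rw [filter_true_of_mem (fun k _ => k.isLt)]

theorem compLabel_le (μ : Fin n → ℕ) (i : Fin n) : Cfsg.compLabel μ i ≤ n :=
  (card_filter_le _ _).trans_eq (by simp)

theorem compLabel_monotone (μ : Fin n → ℕ) : Monotone (Cfsg.compLabel μ) := fun i j h =>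
  card_le_card (monotone_filter_right _ (fun k _ (hk : _ ≤ i.val) => hk.trans h))

theorem compLabel_lt_iff (μ : Fin n → ℕ) (i : Fin n) {s : ℕ} (hs : s ≤ n) :
    Cfsg.compLabel μ i < s ↔ i.val < psum μ s := by
  unfold Cfsg.compLabel
  rcases Nat.eq_zero_or_pos s with rfl | hpos
  · simp [psum]
  · have key : ∀ j : Fin n, (∑ k ∈ univ.filter (fun k : Fin n => k ≤ j), μ k) = psum μ (j.val + 1) := by
      intro j
      unfold psum
      congr 1
      ext k
      simp [Nat.lt_succ_iff]
    simp only [key]
    have mono : ∀ a b : ℕ, a ≤ b → psum μ a ≤ psum μ b := fun a b hab =>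
      sum_le_sum_of_subset (monotone_filter_right _ (fun k _ (hk : k.val < a) => lt_of_lt_of_le hk hab))
    constructor
    · intro h
      by_contra hle
      push Not at hle
      have : (univ.filter (fun j : Fin n => j.val < s)).card ≤
          (univ.filter fun j : Fin n => psum μ (j.val + 1) ≤ i.val).card :=
        card_le_card (monotone_filter_right _ (fun j _ (hj : j.val < s) => (mono _ _ hj).trans hle))
      rw [Fin.card_filter_val_lt, min_eq_right hs] at this
      omega
    · intro h
      have : (univ.filter fun j : Fin n => psum μ (j.val + 1) ≤ i.val).card ≤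
          (univ.filter (fun j : Fin n => j.val < s - 1)).card := by
        refine card_le_card (monotone_filter_right _ (fun j _ (hj : psum μ (j.val + 1) ≤ i.val) => ?_))
        by_contra hjs
        have := mono s (j.val + 1) (by omega)
        omega
      rw [Fin.card_filter_val_lt, min_eq_right (by omega)] at this
      omega

theorem compLabel_lt {μ : Fin n → ℕ} (hμ : ∑ k, μ k = n) (i : Fin n) : Cfsg.compLabel μ i < n := by
  rw [compLabel_lt_iff μ i le_rfl, psum_all, hμ]
  exact i.isLt

/-- The label as an element of `Fin n`. -/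
def label (μ : Fin n → ℕ) (hμ : ∑ k, μ k = n) (i : Fin n) : Fin n :=
  ⟨Cfsg.compLabel μ i, compLabel_lt hμ i⟩

theorem card_label_eq {μ : Fin n → ℕ} (hμ : ∑ k, μ k = n) (s : Fin n) :
    (univ.filter fun i => label μ hμ i = s).card = μ s := by
  have e : (univ.filter fun i => label μ hμ i = s) =
      (univ.filter fun i : Fin n => i.val < psum μ (s.val + 1)) \
        (univ.filter fun i : Fin n => i.val < psum μ s.val) := by
    ext i
    simp only [mem_filter, mem_univ, true_and, mem_sdiff, label, Fin.ext_iff]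
    rw [← compLabel_lt_iff μ i (by omega : s.val + 1 ≤ n), ← compLabel_lt_iff μ i (by omega : s.val ≤ n)]
    omega
  have h1 := psum_le μ (s.val + 1)
  have h2 := psum_succ μ s
  rw [e, card_sdiff_of_subset (monotone_filter_right _ (fun i _ (hi : i.val < psum μ s.val) => lt_of_lt_of_le hi (by omega))),
    Fin.card_filter_val_lt, Fin.card_filter_val_lt]
  omega

/-- Tables with given row and column sums. -/
def Tables (a b : Fin n → ℕ) : Type :=
  {M : Fin n → Fin n → ℕ // (∀ s, ∑ t, M s t = a s) ∧ ∀ t, ∑ s, M s t = b t}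

variable (μ ν : Fin n → ℕ) (hμ : ∑ k, μ k = n) (hν : ∑ k, ν k = n)

/-- The table of a permutation: positions with column label `t` sent to row label `s`. -/
def table (σ : Equiv.Perm (Fin n)) : Tables μ ν :=
  ⟨fun s t => (univ.filter fun j => label μ hμ (σ j) = s ∧ label ν hν j = t).card, by
    constructor
    · intro s
      rw [← card_label_eq hμ s]
      rw [show (univ.filter fun i => label μ hμ i = s).card = (univ.filter fun j => label μ hμ (σ j) = s).card from
        card_equiv σ.symm (by simp)]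
      rw [card_eq_sum_card_fiberwise (f := label ν hν) (t := univ) (fun _ _ => mem_univ _)]
      simp [filter_filter]
    · intro t
      rw [← card_label_eq hν t,
        card_eq_sum_card_fiberwise (f := fun j => label μ hμ (σ j)) (t := univ) (fun _ _ => mem_univ _)]
      simp [filter_filter, and_comm]⟩

theorem table_surjective : Function.Surjective (table μ ν hμ hν) := by
  rintro ⟨M, hrow, hcol⟩
  have hcardμ : ∀ s, Fintype.card {i // label μ hμ i = s} = μ s := fun s => by
    rw [Fintype.card_subtype, card_label_eq hμ]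
  have hcardν : ∀ t, Fintype.card {i // label ν hν i = t} = ν t := fun t => by
    rw [Fintype.card_subtype, card_label_eq hν]
  let eμ : ∀ s, {i // label μ hμ i = s} ≃ Σ t, Fin (M s t) := fun s =>
    Fintype.equivOfCardEq (by rw [hcardμ, Fintype.card_sigma, ← hrow s]; simp)
  let eν : ∀ t, {i // label ν hν i = t} ≃ Σ s, Fin (M s t) := fun t =>
    Fintype.equivOfCardEq (by rw [hcardν, Fintype.card_sigma, ← hcol t]; simp)
  let A : Fin n ≃ Σ s, Σ t, Fin (M s t) := (Equiv.sigmaFiberEquiv (label μ hμ)).symm.trans (Equiv.sigmaCongrRight eμ)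
  let B : Fin n ≃ Σ t, Σ s, Fin (M s t) := (Equiv.sigmaFiberEquiv (label ν hν)).symm.trans (Equiv.sigmaCongrRight eν)
  let swap : (Σ t, Σ s, Fin (M s t)) ≃ Σ s, Σ t, Fin (M s t) :=
    { toFun := fun x => ⟨x.2.1, x.1, x.2.2⟩, invFun := fun x => ⟨x.2.1, x.1, x.2.2⟩,
      left_inv := fun _ => rfl, right_inv := fun _ => rfl }
  have hA : ∀ x, label μ hμ (A.symm x) = x.1 := fun x => ((eμ x.1).symm x.2).2
  have hB : ∀ x, label ν hν (B.symm x) = x.1 := fun x => ((eν x.1).symm x.2).2
  refine ⟨B.trans (swap.trans A.symm), Subtype.ext (funext₂ fun s t => ?_)⟩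
  show (univ.filter fun j : Fin n => label μ hμ ((B.trans (swap.trans A.symm)) j) = s ∧ label ν hν j = t).card = M s t
  rw [← Fintype.card_fin (M s t)]
  symm
  refine card_bij (fun y _ => B.symm ⟨t, s, y⟩) ?_ ?_ ?_
  · intro y _
    refine mem_filter.2 ⟨mem_univ _, ?_, hB _⟩
    simp only [Equiv.trans_apply, hA]
    rw [B.apply_symm_apply]
    rfl
  · intro y _ y' _ h
    simpa using B.symm.injective h
  · intro j hj
    simp only [mem_filter, mem_univ, true_and, Equiv.trans_apply, hA] at hj
    obtain ⟨⟨t', s', y⟩, rfl⟩ := B.symm.surjective j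
    obtain ⟨h1, h2⟩ := hj
    simp only [Equiv.apply_symm_apply, swap, Equiv.coe_fn_mk] at h1
    rw [hB] at h2
    subst h1 h2
    exact ⟨y, mem_univ _, rfl⟩

theorem mem_youngSubgroup_iff (σ : Equiv.Perm (Fin n)) :
    σ ∈ Cfsg.youngSubgroup μ ↔ ∀ i, label μ hμ (σ i) = label μ hμ i := by
  simp only [label, Fin.ext_iff]
  rfl

theorem exists_of_table_eq {σ τ : Equiv.Perm (Fin n)} (h : table μ ν hμ hν σ = table μ ν hμ hν τ) :
    ∃ a ∈ Cfsg.youngSubgroup μ, ∃ b ∈ Cfsg.youngSubgroup ν, τ = a * σ * b := by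
  let f : Equiv.Perm (Fin n) → Fin n → Fin n × Fin n := fun ρ j => (label μ hμ (ρ j), label ν hν j)
  have hfib : ∀ p, Fintype.card {j // f τ j = p} = Fintype.card {j // f σ j = p} := by
    rintro ⟨s, t⟩
    have := congrFun (congrFun (congrArg Subtype.val h) s) t
    simp only [table] at this
    simp only [Fintype.card_subtype, f, Prod.mk.injEq]
    exact this.symm
  let b : Equiv.Perm (Fin n) := Equiv.ofFiberEquiv (f := f τ) (g := f σ) fun p => Fintype.equivOfCardEq (hfib p)
  have hb : ∀ j, f σ (b j) = f τ j := fun j => Equiv.ofFiberEquiv_map _ j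
  refine ⟨τ * b⁻¹ * σ⁻¹, ?_, b, ?_, by group⟩
  · rw [mem_youngSubgroup_iff μ hμ]
    intro i
    obtain ⟨j, rfl⟩ : ∃ j, σ (b j) = i := ⟨b⁻¹ (σ⁻¹ i), by simp⟩
    simpa [f] using (congrArg Prod.fst (hb j)).symm
  · rw [mem_youngSubgroup_iff ν hν]
    exact fun j => congrArg Prod.snd (hb j)

end CfsgLib.GLFlags
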