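import Mathlib
import Cfsg.Agent.Lib.GLFlags.Labels
/-!
Bruhat decomposition of `GL_n` and double cosets of standard parabolic subgroups.
-/
set_option autoImplicit false

namespace CfsgLib.GLFlags

open Finset Matrix

variable {n : ℕ} {F : Type*} [Field F]

/-- The permutation matrix sending `e_j` to `e_{σ j}`. -/
def permMat (F : Type*) [Field F] (σ : Equiv.Perm (Fin n)) : Matrix (Fin n) (Fin n) F :=
  Matrix.of fun i j => if i = σ j then 1 else 0

theorem permMat_mul (σ τ : Equiv.Perm (Fin n)) : permMat F σ * permMat F τ = permMat F (σ * τ) := by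
  ext i j
  simp [permMat, Matrix.mul_apply]
  congr

theorem permMat_one : permMat F (1 : Equiv.Perm (Fin n)) = 1 := by
  ext i j
  simp [permMat, Matrix.one_apply]
  congr

/-- The permutation matrices as invertible matrices. -/
def permGL (F : Type*) [Field F] : Equiv.Perm (Fin n) →* GL (Fin n) F :=
  MonoidHom.toHomUnits
    { toFun := permMat F
      map_one' := permMat_one
      map_mul' := fun σ τ => (permMat_mul σ τ).symm }

@[simp] theorem permGL_coe (σ : Equiv.Perm (Fin n)) :
    (permGL F σ : Matrix (Fin n) (Fin n) F) = permMat F σ := rfl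

theorem mem_parabolicGL_iff (μ : Fin n → ℕ) (g : GL (Fin n) F) :
    g ∈ Cfsg.parabolicGL n F μ ↔
      ∀ i j, Cfsg.compLabel μ j < Cfsg.compLabel μ i → (g : Matrix (Fin n) (Fin n) F) i j = 0 :=
  Iff.rfl

theorem upperTriangularGL_le (μ : Fin n → ℕ) : Cfsg.upperTriangularGL n F ≤ Cfsg.parabolicGL n F μ := by
  intro g hg i j hij
  refine hg ?_
  show j < i
  by_contra h
  push Not at h
  exact absurd hij (not_lt.2 (compLabel_monotone μ h))

theorem permGL_mem_parabolicGL {μ : Fin n → ℕ} {σ : Equiv.Perm (Fin n)}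
    (h : σ ∈ Cfsg.youngSubgroup μ) : permGL F σ ∈ Cfsg.parabolicGL n F μ := by
  rw [mem_parabolicGL_iff]
  intro i j hij
  simp only [permGL_coe, permMat, Matrix.of_apply]
  rw [if_neg]
  rintro rfl
  rw [h j] at hij
  exact lt_irrefl _ hij

/-- Bruhat decomposition: every invertible matrix is upper triangular times a permutation matrix times
upper triangular. -/
theorem bruhat (g : GL (Fin n) F) : ∃ p ∈ Cfsg.upperTriangularGL n F, ∃ q ∈ Cfsg.upperTriangularGL n F,
    ∃ σ : Equiv.Perm (Fin n), g = p * permGL F σ * q := by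
  classical
  let G : Matrix (Fin n) (Fin n) F := g
  let P : Fin n → ℕ → Prop := fun j m => ∃ c : Fin n → F, c j = 1 ∧ (∀ k, j < k → c k = 0) ∧
    ∀ x : Fin n, m ≤ x.val → (G *ᵥ c) x = 0
  have hex : ∀ j, ∃ m, P j m := fun j =>
    ⟨n, Pi.single j 1, by simp, fun k hk => Pi.single_eq_of_ne (ne_of_gt hk) _,
      fun x hx => absurd x.isLt (not_lt.2 hx)⟩
  let m : Fin n → ℕ := fun j => Nat.find (hex j)
  have hPn : ∀ j, P j n := fun j =>
    ⟨Pi.single j 1, by simp, fun k hk => Pi.single_eq_of_ne (ne_of_gt hk) _,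
      fun x hx => absurd x.isLt (not_lt.2 hx)⟩
  have hm : ∀ j, P j (m j) := fun j => Nat.find_spec (hex j)
  have hmle : ∀ j, m j ≤ n := fun j => Nat.find_min' (hex j) (hPn j)
  choose c hc1 hc0 hcz using hm
  have hinj : Function.Injective G.mulVec := Matrix.mulVec_injective_iff_isUnit.2 g.isUnit
  have hmpos : ∀ j, 0 < m j := by
    intro j
    by_contra h
    have h0 : G *ᵥ c j = G *ᵥ 0 := by
      rw [mulVec_zero]
      funext x
      exact hcz j x (by omega)
    have := congrFun (hinj h0) j
    rw [hc1] at this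
    exact one_ne_zero this
  let piv : Fin n → Fin n := fun j => ⟨m j - 1, by have := hmpos j; have := hmle j; omega⟩
  have hpiv : ∀ j, (G *ᵥ c j) (piv j) ≠ 0 := by
    intro j h0
    refine Nat.find_min (hex j) (show m j - 1 < m j by have := hmpos j; omega)
      ⟨c j, hc1 j, hc0 j, fun x hx => ?_⟩
    rcases eq_or_lt_of_le hx with h | h
    · have : x = piv j := Fin.ext h.symm
      rw [this]; exact h0
    · exact hcz j x (by omega)
  have hzero : ∀ j x, piv j < x → (G *ᵥ c j) x = 0 := fun j x hx => hcz j x (by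
    have : (piv j).val < x.val := hx
    simp only [piv] at this
    omega)
  have hpinj : Function.Injective piv := by
    have key : ∀ i j, i < j → piv i ≠ piv j := by
      intro i j hij heq
      let t := (G *ᵥ c j) (piv j) / (G *ᵥ c i) (piv i)
      have hne := hpiv i
      refine Nat.find_min (hex j) (show m j - 1 < m j by have := hmpos j; omega)
        ⟨c j - t • c i, ?_, ?_, fun x hx => ?_⟩
      · simp [hc1 j, hc0 i j hij]
      · intro k hk
        simp [hc0 j k hk, hc0 i k (hij.trans hk)]
      · simp only [mulVec_sub, mulVec_smul, Pi.sub_apply, Pi.smul_apply, smul_eq_mul]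
        rcases eq_or_lt_of_le hx with h | h
        · have hx' : x = piv j := Fin.ext h.symm
          subst hx'
          simp only [t, heq] at hne ⊢
          rw [div_mul_cancel₀ _ hne, sub_self]
        · have hlt : piv j < x := Fin.lt_def.2 h
          rw [hzero j x hlt, hzero i x (heq ▸ hlt)]
          simp
    intro i j h
    rcases lt_trichotomy i j with hlt | heq | hgt
    · exact absurd h (key i j hlt)
    · exact heq
    · exact absurd h.symm (key j i hgt)
  let σ : Equiv.Perm (Fin n) := Equiv.ofBijective piv ⟨hpinj, Finite.injective_iff_surjective.1 hpinj⟩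
  let Q : Matrix (Fin n) (Fin n) F := Matrix.of fun k j => c j k
  have hQt : Q.BlockTriangular id := fun k j hkj => hc0 j k hkj
  have hQdet : Q.det = 1 := by
    rw [Matrix.det_of_isUpperTriangular hQt]
    simp [Q, hc1]
  let q : GL (Fin n) F := GeneralLinearGroup.mkOfDetNeZero Q (by rw [hQdet]; exact one_ne_zero)
  refine ⟨g * q * (permGL F σ)⁻¹, ?_, q⁻¹, Subgroup.inv_mem _ hQt, σ, by group⟩
  intro i k hik
  rw [← map_inv, Units.val_mul, Units.val_mul, permGL_coe]
  have hgq : ∀ i j, ((g : Matrix (Fin n) (Fin n) F) * (q : Matrix (Fin n) (Fin n) F)) i j =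
      (G *ᵥ c j) i := fun i j => by
    simp [Matrix.mul_apply, mulVec, dotProduct, G, q, GeneralLinearGroup.mkOfDetNeZero, Q]
  rw [Matrix.mul_apply, Finset.sum_eq_single (σ⁻¹ k)]
  · rw [hgq, hzero _ _ ?_, zero_mul]
    have : piv (σ⁻¹ k) = k := σ.apply_symm_apply k
    rw [this]
    exact hik
  · intro x _ hx
    rw [show permMat F σ⁻¹ x k = 0 from if_neg hx, mul_zero]
  · simp

section Rank

/-- A product restricted to rows with label at least `s`, the left factor being block triangular. -/
theorem submatrix_mul_left {κ : Type*} (a : Fin n → ℕ) {p : Matrix (Fin n) (Fin n) F}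
    (hp : p.BlockTriangular a) (s : ℕ) (X : Matrix (Fin n) (Fin n) F) (f : κ → Fin n) :
    (p * X).submatrix (fun i : {i // s ≤ a i} => (i : Fin n)) f =
      p.submatrix (fun i : {i // s ≤ a i} => (i : Fin n)) (fun i : {i // s ≤ a i} => (i : Fin n)) *
        X.submatrix (fun i : {i // s ≤ a i} => (i : Fin n)) f := by
  ext ⟨i, hi⟩ j
  simp only [submatrix_apply, Matrix.mul_apply]
  rw [← Finset.sum_subtype (univ.filter fun k => s ≤ a k) (by simp)
    (fun k => p i k * X k (f j))]
  refine (Finset.sum_subset (filter_subset _ _) fun k _ hk => ?_).symm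
  simp only [mem_filter, mem_univ, true_and, not_le] at hk
  rw [hp (show a k < a i by omega), zero_mul]

/-- A product restricted to columns with label at most `t`, the right factor being block triangular. -/
theorem submatrix_mul_right {κ : Type*} (b : Fin n → ℕ) {q : Matrix (Fin n) (Fin n) F}
    (hq : q.BlockTriangular b) (t : ℕ) (X : Matrix (Fin n) (Fin n) F) (f : κ → Fin n) :
    (X * q).submatrix f (fun j : {j // b j ≤ t} => (j : Fin n)) =
      X.submatrix f (fun j : {j // b j ≤ t} => (j : Fin n)) *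
        q.submatrix (fun j : {j // b j ≤ t} => (j : Fin n)) (fun j : {j // b j ≤ t} => (j : Fin n)) := by
  ext i ⟨j, hj⟩
  simp only [submatrix_apply, Matrix.mul_apply]
  rw [← Finset.sum_subtype (univ.filter fun k => b k ≤ t) (by simp)
    (fun k => X (f i) k * q k j)]
  refine (Finset.sum_subset (filter_subset _ _) fun k _ hk => ?_).symm
  simp only [mem_filter, mem_univ, true_and, not_le] at hk
  rw [hq (show b j < b k by omega), mul_zero]

/-- Rank of the corner with row labels at least `s` and column labels at most `t`. -/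
noncomputable def cornerRank (a b : Fin n → ℕ) (s t : ℕ) (X : Matrix (Fin n) (Fin n) F) : ℕ :=
  (X.submatrix (fun i : {i // s ≤ a i} => (i : Fin n)) (fun j : {j // b j ≤ t} => (j : Fin n))).rank

theorem cornerRank_le {a b : Fin n → ℕ} {p q : Matrix (Fin n) (Fin n) F}
    (hp : p.BlockTriangular a) (hq : q.BlockTriangular b) (s t : ℕ) (X : Matrix (Fin n) (Fin n) F) :
    cornerRank a b s t (p * X * q) ≤ cornerRank a b s t X := by
  unfold cornerRank
  rw [submatrix_mul_right b hq t, submatrix_mul_left a hp s]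
  exact (rank_mul_le_left _ _).trans (rank_mul_le_right _ _)

theorem cornerRank_permMat (a b : Fin n → ℕ) (s t : ℕ) (σ : Equiv.Perm (Fin n)) :
    cornerRank a b s t (permMat F σ) = (univ.filter fun j => s ≤ a (σ j) ∧ b j ≤ t).card := by
  classical
  let M := (permMat F σ).submatrix (fun i : {i // s ≤ a i} => (i : Fin n)) (fun j : {j // b j ≤ t} => (j : Fin n))
  let w : {j // b j ≤ t} → F := fun j => if s ≤ a (σ j) then 1 else 0
  have h1 : M * diagonal w = M := by
    ext i j
    rw [mul_diagonal]
    simp only [M, w, submatrix_apply, permMat, Matrix.of_apply]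
    split_ifs with h h' <;> simp
    exact h' (h ▸ i.2)
  have h2 : Mᵀ * M = diagonal w := by
    ext j k
    simp only [Matrix.mul_apply, transpose_apply, M, submatrix_apply, permMat, Matrix.of_apply, w]
    rw [← Finset.sum_subtype (univ.filter fun i => s ≤ a i) (by simp)
      (fun i => (if i = σ j.1 then (1 : F) else 0) * if i = σ k.1 then 1 else 0)]
    simp only [ite_mul, one_mul, zero_mul, Finset.sum_ite_eq', mem_filter, mem_univ, true_and,
      σ.injective.eq_iff, diagonal_apply, Subtype.ext_iff]
    split_ifs <;> rfl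
  have hr : M.rank = (diagonal w).rank := by
    apply le_antisymm
    · calc M.rank = (M * diagonal w).rank := by rw [h1]
        _ ≤ (diagonal w).rank := rank_mul_le_right _ _
    · rw [← h2]; exact rank_mul_le_right _ _
  unfold cornerRank
  rw [hr, rank_diagonal, Fintype.card_subtype]
  refine card_bij (fun j _ => j.1) ?_ (fun j _ k _ h => Subtype.ext h) ?_
  · intro j hj
    simp only [mem_filter, mem_univ, true_and, w, ne_eq, ite_eq_right_iff, one_ne_zero, imp_false,
      not_not] at hj ⊢
    exact ⟨hj, j.2⟩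
  · intro j hj
    simp only [mem_filter, mem_univ, true_and] at hj
    exact ⟨⟨j, hj.2⟩, by simp [w, hj.1], rfl⟩

end Rank

variable (μ ν : Fin n → ℕ) (hμ : ∑ k, μ k = n) (hν : ∑ k, ν k = n)

theorem table_eq_of_mk_eq {σ τ : Equiv.Perm (Fin n)}
    (h : DoubleCoset.mk (Cfsg.parabolicGL n F μ) (Cfsg.parabolicGL n F ν) (permGL F σ) =
      DoubleCoset.mk (Cfsg.parabolicGL n F μ) (Cfsg.parabolicGL n F ν) (permGL F τ)) :
    table μ ν hμ hν σ = table μ ν hμ hν τ := by
  classical
  obtain ⟨p, hp, q, hq, hpq⟩ := (DoubleCoset.eq _ _ _ _).1 h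
  let C : Equiv.Perm (Fin n) → ℕ → ℕ → ℕ := fun ρ s t =>
    (univ.filter fun j => s ≤ Cfsg.compLabel μ (ρ j) ∧ Cfsg.compLabel ν j ≤ t).card
  have hC : ∀ s t, C σ s t = C τ s t := by
    intro s t
    simp only [C, ← cornerRank_permMat (F := F)]
    apply le_antisymm
    · have e : permMat F σ = (p⁻¹ : GL (Fin n) F).val * permMat F τ * (q⁻¹ : GL (Fin n) F).val := by
        rw [← permGL_coe, ← permGL_coe, ← Units.val_mul, ← Units.val_mul, hpq]
        congr 1
        group
      rw [e]
      exact cornerRank_le (Subgroup.inv_mem _ hp) (Subgroup.inv_mem _ hq) s t _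
    · have e : permMat F τ = p.val * permMat F σ * q.val := by
        rw [← permGL_coe, ← permGL_coe, ← Units.val_mul, ← Units.val_mul, hpq]
      rw [e]
      exact cornerRank_le hp hq s t _
  let E : Equiv.Perm (Fin n) → ℕ → ℕ → ℕ := fun ρ s t =>
    (univ.filter fun j => Cfsg.compLabel μ (ρ j) = s ∧ Cfsg.compLabel ν j ≤ t).card
  have hE : ∀ ρ s t, C ρ s t = E ρ s t + C ρ (s + 1) t := by
    intro ρ s t
    simp only [C, E]
    rw [← card_union_of_disjoint, ← filter_or]
    · congr 1; ext j; simp; omega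
    · rw [disjoint_filter]; intro j _ h1 h2; omega
  have hE' : ∀ s t, E σ s t = E τ s t := fun s t => by
    have h1 := hE σ s t
    have h2 := hE τ s t
    rw [hC s t, hC (s + 1) t] at h1
    omega
  let T : Equiv.Perm (Fin n) → ℕ → ℕ → ℕ := fun ρ s t =>
    (univ.filter fun j => Cfsg.compLabel μ (ρ j) = s ∧ Cfsg.compLabel ν j = t).card
  have hT0 : ∀ ρ s, T ρ s 0 = E ρ s 0 := fun ρ s => by simp [T, E]
  have hTS : ∀ ρ s t, E ρ s (t + 1) = E ρ s t + T ρ s (t + 1) := by
    intro ρ s t
    simp only [T, E]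
    rw [← card_union_of_disjoint, ← filter_or]
    · congr 1; ext j; simp; omega
    · rw [disjoint_filter]; intro j _ h1 h2; omega
  have hT : ∀ s t, T σ s t = T τ s t := by
    intro s t
    rcases t with _ | t
    · rw [hT0, hT0, hE']
    · have h1 := hTS σ s t
      have h2 := hTS τ s t
      rw [hE', hE'] at h1
      omega
  refine Subtype.ext (funext₂ fun s t => ?_)
  have := hT s.val t.val
  simpa [T, table, label, Fin.ext_iff] using this

theorem permGL_mk_surjective :
    Function.Surjective fun σ : Equiv.Perm (Fin n) =>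
      DoubleCoset.mk (Cfsg.parabolicGL n F μ) (Cfsg.parabolicGL n F ν) (permGL F σ) := by
  intro x
  obtain ⟨g, rfl⟩ : ∃ g, DoubleCoset.mk (Cfsg.parabolicGL n F μ) (Cfsg.parabolicGL n F ν) g = x :=
    Quotient.mk''_surjective x
  obtain ⟨p, hp, q, hq, σ, rfl⟩ := bruhat g
  exact ⟨σ, (DoubleCoset.eq _ _ _ _).2 ⟨p, upperTriangularGL_le μ hp, q, upperTriangularGL_le ν hq, rfl⟩⟩

include hμ hν in
/-- The double cosets of two standard parabolic subgroups correspond to the tables with the two
compositions as margins. -/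
theorem card_doubleCoset_parabolicGL :
    Nat.card (DoubleCoset.Quotient (Cfsg.parabolicGL n F μ : Set (GL (Fin n) F)) (Cfsg.parabolicGL n F ν)) =
      Nat.card (Tables μ ν) := by
  classical
  let f := fun σ : Equiv.Perm (Fin n) =>
    DoubleCoset.mk (Cfsg.parabolicGL n F μ) (Cfsg.parabolicGL n F ν) (permGL F σ)
  have hfib : ∀ σ τ, f σ = f τ ↔ table μ ν hμ hν σ = table μ ν hμ hν τ := by
    refine fun σ τ => ⟨table_eq_of_mk_eq μ ν hμ hν, fun h => ?_⟩
    obtain ⟨a, ha, b, hb, rfl⟩ := exists_of_table_eq μ ν hμ hν h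
    exact (DoubleCoset.eq _ _ _ _).2
      ⟨_, permGL_mem_parabolicGL ha, _, permGL_mem_parabolicGL hb, by simp [map_mul]⟩
  let e : Quotient (Setoid.ker f) ≃ Quotient (Setoid.ker (table μ ν hμ hν)) :=
    Quotient.congrRight fun σ τ => hfib σ τ
  exact Nat.card_congr (((Setoid.quotientKerEquivOfSurjective f (permGL_mk_surjective μ ν)).symm.trans e).trans
    (Setoid.quotientKerEquivOfSurjective _ (table_surjective μ ν hμ hν)))

include hμ hν in
theorem card_doubleCoset_young :
    Nat.card (DoubleCoset.Quotient (Cfsg.youngSubgroup μ : Set (Equiv.Perm (Fin n))) (Cfsg.youngSubgroup ν)) =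
      Nat.card (Tables μ ν) := by
  classical
  let f := fun σ : Equiv.Perm (Fin n) => DoubleCoset.mk (Cfsg.youngSubgroup μ) (Cfsg.youngSubgroup ν) σ
  have hfib : ∀ σ τ, f σ = f τ ↔ table μ ν hμ hν σ = table μ ν hμ hν τ := by
    refine fun σ τ => ⟨fun h => ?_, fun h => ?_⟩
    · obtain ⟨a, ha, b, hb, rfl⟩ := (DoubleCoset.eq _ _ _ _).1 h
      rw [mem_youngSubgroup_iff μ hμ] at ha
      rw [mem_youngSubgroup_iff ν hν] at hb
      refine Subtype.ext (funext₂ fun s t => ?_)
      show (univ.filter fun j : Fin n => label μ hμ (σ j) = s ∧ label ν hν j = t).card =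
        (univ.filter fun j : Fin n => label μ hμ ((a * σ * b) j) = s ∧ label ν hν j = t).card
      refine (card_equiv b fun j => ?_).symm
      simp [Equiv.Perm.mul_apply, ha, hb]
    · exact (DoubleCoset.eq _ _ _ _).2 (exists_of_table_eq μ ν hμ hν h)
  let e : Quotient (Setoid.ker f) ≃ Quotient (Setoid.ker (table μ ν hμ hν)) :=
    Quotient.congrRight fun σ τ => hfib σ τ
  exact Nat.card_congr (((Setoid.quotientKerEquivOfSurjective f Quotient.mk''_surjective).symm.trans e).trans
    (Setoid.quotientKerEquivOfSurjective _ (table_surjective μ ν hμ hν)))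

end CfsgLib.GLFlags
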