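import Mathlib
import Cfsg.Agent.Lib.GLFlags.Labels
/-!
Orders of standard parabolic subgroups of `GL_n(q)` and their indices as quotients of q-factorials.
-/
set_option autoImplicit false

namespace CfsgLib.GLFlags

open Finset Matrix

/-- The q-integer `1 + q + ⋯ + q^(r-1)`. -/
def qInt (q r : ℕ) : ℕ := ∑ l ∈ range r, q ^ l

/-- The q-factorial. -/
def qFact (q m : ℕ) : ℕ := ∏ j ∈ range m, qInt q (j + 1)

theorem qInt_add (q a b : ℕ) : qInt q (a + b) = qInt q a + q ^ a * qInt q b := by
  rw [qInt, qInt, qInt, sum_range_add, mul_sum]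
  simp [pow_add]

theorem qInt_pos (q : ℕ) {r : ℕ} (hr : 0 < r) : 0 < qInt q r :=
  sum_pos' (fun _ _ => Nat.zero_le _) ⟨0, mem_range.2 hr, by simp⟩

theorem qFact_pos (q m : ℕ) : 0 < qFact q m := prod_pos fun _ _ => qInt_pos q (Nat.succ_pos _)

theorem qInt_mul_sub_one {q : ℕ} (hq : 1 ≤ q) (r : ℕ) : qInt q r * (q - 1) = q ^ r - 1 := by
  induction r with
  | zero => simp [qInt]
  | succ r ih =>
    rw [qInt, sum_range_succ, ← qInt, add_mul, ih, pow_succ, Nat.mul_sub, mul_one]
    have h1 : 1 ≤ q ^ r := Nat.one_le_pow _ _ hq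
    have h2 : q ^ r ≤ q ^ r * q := Nat.le_mul_of_pos_right _ hq
    omega

variable {F : Type*} [Field F] [Fintype F]

theorem card_GL_eq (m : ℕ) :
    Nat.card (GL (Fin m) F) = Fintype.card F ^ m.choose 2 * (Fintype.card F - 1) ^ m * qFact (Fintype.card F) m := by
  rw [Matrix.card_GL_field, Fin.prod_univ_eq_prod_range (fun i => Fintype.card F ^ m - Fintype.card F ^ i) m]
  set q := Fintype.card F
  have hq : 1 ≤ q := Fintype.card_pos
  rw [prod_congr rfl (g := fun i => q ^ i * ((q - 1) * qInt q (m - i))) fun i hi => ?_]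
  · rw [prod_mul_distrib, prod_mul_distrib, prod_const, card_range, prod_pow_eq_pow_sum]
    have e : ∏ i ∈ range m, qInt q (m - i) = qFact q m := by
      rw [qFact, ← prod_range_reflect (fun j => qInt q (j + 1)) m]
      refine prod_congr rfl fun i hi => ?_
      rw [mem_range] at hi
      congr 1
      omega
    rw [e, sum_range_id, Nat.choose_two_right, mul_assoc]
  · rw [mem_range] at hi
    rw [mul_comm (q - 1), qInt_mul_sub_one hq, Nat.mul_sub, mul_one, ← pow_add, Nat.add_sub_cancel' hi.le]

variable {n : ℕ} (μ : Fin n → ℕ) (hμ : ∑ k, μ k = n)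

theorem parabolic_iff (g : GL (Fin n) F) :
    g ∈ Cfsg.parabolicGL n F μ ↔ (g : Matrix (Fin n) (Fin n) F).BlockTriangular (label μ hμ) :=
  ⟨fun h _ _ hij => h hij, fun h _ _ hij => h hij⟩

theorem det_isUnit_iff {M : Matrix (Fin n) (Fin n) F} (hM : M.BlockTriangular (label μ hμ)) :
    IsUnit M.det ↔ ∀ a, IsUnit (M.toSquareBlock (label μ hμ) a).det := by
  rw [hM.det_fintype, IsUnit.prod_iff]
  simp

/-- The block data of an element of the parabolic subgroup. -/
noncomputable def parabolicEquiv :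
    Cfsg.parabolicGL n F μ ≃ ((a : Fin n) → GL {i // label μ hμ i = a} F) ×
      ({p : Fin n × Fin n // label μ hμ p.1 < label μ hμ p.2} → F) where
  toFun g := (fun a => GeneralLinearGroup.mkOfDetNeZero
      ((g.1 : Matrix (Fin n) (Fin n) F).toSquareBlock (label μ hμ) a)
      (((det_isUnit_iff μ hμ ((parabolic_iff μ hμ g.1).1 g.2)).1 ((Matrix.isUnit_iff_isUnit_det _).1 g.1.isUnit) a).ne_zero),
    fun p => (g.1 : Matrix (Fin n) (Fin n) F) p.1.1 p.1.2)
  invFun x := by
    let M : Matrix (Fin n) (Fin n) F := Matrix.of fun i j =>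
      if h : label μ hμ i = label μ hμ j then
        (x.1 (label μ hμ j) : Matrix {k // label μ hμ k = label μ hμ j} {k // label μ hμ k = label μ hμ j} F) ⟨i, h⟩ ⟨j, rfl⟩
      else if h' : label μ hμ i < label μ hμ j then x.2 ⟨(i, j), h'⟩ else 0
    have hT : M.BlockTriangular (label μ hμ) := fun i j hij => by
      simp only [M, Matrix.of_apply, dif_neg hij.ne', dif_neg (not_lt.2 hij.le)]
    have hB : ∀ a, M.toSquareBlock (label μ hμ) a = (x.1 a : Matrix _ _ F) := by
      intro a
      ext ⟨i, hi⟩ ⟨j, hj⟩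
      subst hj
      simp [M, toSquareBlock_def, hi]
    have hdet : M.det ≠ 0 := IsUnit.ne_zero ((det_isUnit_iff μ hμ hT).2 fun a => by
      rw [hB]; exact (Matrix.isUnit_iff_isUnit_det _).1 (x.1 a).isUnit)
    exact ⟨GeneralLinearGroup.mkOfDetNeZero M hdet, (parabolic_iff μ hμ _).2 hT⟩
  left_inv g := by
    refine Subtype.ext (Units.ext ?_)
    ext i j
    simp only [GeneralLinearGroup.mkOfDetNeZero]
    show (if h : label μ hμ i = label μ hμ j then _ else if h' : label μ hμ i < label μ hμ j then _ else (0 : F)) = _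
    split_ifs with h h'
    · rfl
    · rfl
    · exact ((parabolic_iff μ hμ g.1).1 g.2 (lt_of_le_of_ne (not_lt.1 h') (Ne.symm h))).symm
  right_inv x := by
    refine Prod.ext (funext fun a => Units.ext ?_) (funext fun p => ?_)
    · ext ⟨i, hi⟩ ⟨j, hj⟩
      subst hj
      simp [GeneralLinearGroup.mkOfDetNeZero, toSquareBlock_def, hi]
    · obtain ⟨⟨i, j⟩, hp⟩ := p
      simp [GeneralLinearGroup.mkOfDetNeZero, hp, hp.ne]

include hμ in
theorem choose_two_sum :
    (∑ a, (μ a).choose 2) + Fintype.card {p : Fin n × Fin n // label μ hμ p.1 < label μ hμ p.2} = n.choose 2 := by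
  classical
  set c := label μ hμ
  set lt := Fintype.card {p : Fin n × Fin n // c p.1 < c p.2} with hlt
  set eq := Fintype.card {p : Fin n × Fin n // c p.1 = c p.2} with heq
  have hgt : Fintype.card {p : Fin n × Fin n // c p.2 < c p.1} = lt :=
    Fintype.card_congr ((Equiv.prodComm _ _).subtypeEquiv (fun p => Iff.rfl))
  have htot : lt + eq + lt = n * n := by
    nth_rw 2 [← hgt]
    rw [hlt, heq, Fintype.card_subtype, Fintype.card_subtype, Fintype.card_subtype,
      ← card_union_of_disjoint, ← filter_or, ← card_union_of_disjoint, ← filter_or]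
    · rw [filter_true_of_mem fun p _ => ?_]
      · simp
      · rcases lt_trichotomy (c p.1) (c p.2) with h | h | h <;> simp [h]
    · rw [disjoint_filter]; rintro p _ (h1 | h1) h2
      · exact lt_asymm h1 h2
      · exact absurd h2 (not_lt.2 h1.le)
    · rw [disjoint_filter]; intro p _ h1 h2; exact absurd h2 h1.ne
  have heq' : eq = ∑ a, μ a * μ a := by
    rw [heq, Fintype.card_subtype, card_eq_sum_card_fiberwise (f := fun p => c p.1) (t := univ) (fun _ _ => mem_univ _)]
    refine sum_congr rfl fun a _ => ?_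
    rw [← card_label_eq hμ a, ← card_product]
    refine congrArg card ?_
    ext p
    simp only [mem_filter, mem_univ, true_and, mem_product]
    exact ⟨fun h => ⟨h.2, h.1.symm.trans h.2⟩, fun h => ⟨h.1.trans h.2.symm, h.1⟩⟩
  have h2 : ∀ m : ℕ, 2 * m.choose 2 + m = m * m := by
    intro m
    induction m with
    | zero => simp
    | succ m ih => rw [Nat.choose_succ_succ', Nat.choose_one_right]; ring_nf; ring_nf at ih; omega
  have hsum : 2 * (∑ a, (μ a).choose 2) + n = ∑ a, μ a * μ a := by
    rw [← sum_congr rfl fun a _ => h2 (μ a), sum_add_distrib, mul_sum, hμ]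
  have := h2 n
  omega

include hμ in
theorem card_parabolicGL :
    Nat.card (Cfsg.parabolicGL n F μ) =
      Fintype.card F ^ n.choose 2 * (Fintype.card F - 1) ^ n * ∏ a, qFact (Fintype.card F) (μ a) := by
  classical
  rw [Nat.card_congr (parabolicEquiv μ hμ), Nat.card_prod, Nat.card_pi, Nat.card_fun]
  have hblock : ∀ a, Nat.card (GL {i // label μ hμ i = a} F) = Nat.card (GL (Fin (μ a)) F) := fun a =>
    Nat.card_congr (Units.mapEquiv (Matrix.reindexAlgEquiv F F (Fintype.equivFinOfCardEq
      (by rw [Fintype.card_subtype, card_label_eq hμ]))).toMulEquiv).toEquiv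
  simp only [hblock, card_GL_eq]
  rw [prod_mul_distrib, prod_mul_distrib, prod_pow_eq_pow_sum, prod_pow_eq_pow_sum, hμ,
    Nat.card_eq_fintype_card (α := F), Nat.card_eq_fintype_card, mul_comm _ (Fintype.card F ^ Fintype.card _)]
  rw [← choose_two_sum μ hμ, pow_add]
  ring

include hμ in
theorem index_parabolicGL_mul :
    (Cfsg.parabolicGL n F μ).index * ∏ a, qFact (Fintype.card F) (μ a) = qFact (Fintype.card F) n := by
  have h := Subgroup.card_mul_index (Cfsg.parabolicGL n F μ)
  rw [card_parabolicGL μ hμ, card_GL_eq] at h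
  have hq : 1 < Fintype.card F := Fintype.one_lt_card
  have hpos : 0 < Fintype.card F ^ n.choose 2 * (Fintype.card F - 1) ^ n :=
    Nat.mul_pos (Nat.pow_pos (by omega)) (Nat.pow_pos (by omega))
  apply Nat.eq_of_mul_eq_mul_left hpos
  rw [← h]
  ring

end CfsgLib.GLFlags
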