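import Mathlib
/-!
Cauchy's determinant in the polynomial form `det[∏_{k≠j} (1 - x_i y_k)] = Δ(x) Δ(y)`.
-/
set_option autoImplicit false

namespace CfsgLib.GLFlags

open Finset Matrix Polynomial

variable {D : Type*} [CommRing D]

/-- Homogenising `∏ (1 - a T)` at `w` gives `∏ (w - a)`. -/
theorem sum_pow_mul_coeff_prod {ι : Type*} (y : ι → D) (w : D) (s : Finset ι) :
    ∑ l ∈ range (s.card + 1), w ^ (s.card - l) * (∏ k ∈ s, (1 - C (y k) * X)).coeff l =
      ∏ k ∈ s, (w - y k) := by
  classical
  induction s using Finset.induction_on with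
  | empty => simp
  | insert a s ha ih =>
    rw [prod_insert ha, prod_insert ha, card_insert_of_notMem ha, ← ih, sub_mul w, mul_sum, mul_sum]
    set p := ∏ k ∈ s, (1 - C (y k) * X) with hp
    have hdeg : p.natDegree ≤ s.card := by
      refine (natDegree_prod_le _ _).trans ?_
      rw [card_eq_sum_ones]
      refine sum_le_sum fun k _ => ?_
      refine (natDegree_sub_le _ _).trans ?_
      simp only [natDegree_one, Nat.zero_le, max_eq_right]
      exact natDegree_mul_le.trans (by simp [natDegree_X_le])
    have h1 : ∀ l, ((1 - C (y a) * X) * p).coeff l =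
        p.coeff l - (if l = 0 then 0 else y a * p.coeff (l - 1)) := by
      intro l
      rcases l with _ | l <;> simp [sub_mul, mul_assoc]
    simp only [h1, mul_sub, sum_sub_distrib]
    congr 1
    · rw [sum_range_succ, coeff_eq_zero_of_natDegree_lt (n := s.card + 1) (by omega), mul_zero, add_zero]
      refine sum_congr rfl fun l hl => ?_
      rw [mem_range] at hl
      rw [show s.card + 1 - l = s.card - l + 1 by omega, pow_succ]
      ring
    · rw [sum_range_succ' _ (s.card + 1)]
      simp only [Nat.add_one_sub_one, Nat.succ_ne_zero, if_false, if_true, mul_zero, add_zero]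
      refine sum_congr rfl fun l hl => ?_
      rw [Nat.add_sub_add_right]
      ring

/-- Cauchy's determinant in polynomial form. -/
theorem det_prod_one_sub [IsDomain D] {n : ℕ} (x y : Fin n → D) (hy : Function.Injective y) :
    (Matrix.of fun i j => ∏ k ∈ univ.erase j, (1 - x i * y k)).det =
      (vandermonde x).det * (vandermonde y).det := by
  classical
  rcases n.eq_zero_or_pos with rfl | hn
  · simp
  let P : Fin n → D[X] := fun j => ∏ k ∈ univ.erase j, (1 - C (y k) * X)
  let K : Matrix (Fin n) (Fin n) D := Matrix.of fun l j => (P j).coeff l.val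
  have hcard : ∀ j : Fin n, (univ.erase j).card = n - 1 := fun j => by simp
  have hdeg : ∀ j, (P j).natDegree < n := by
    intro j
    have : (P j).natDegree ≤ (univ.erase j).card := by
      refine (natDegree_prod_le _ _).trans ?_
      rw [card_eq_sum_ones]
      refine sum_le_sum fun k _ => ?_
      refine (natDegree_sub_le _ _).trans ?_
      simp only [natDegree_one, Nat.zero_le, max_eq_right]
      exact natDegree_mul_le.trans (by simp [natDegree_X_le])
    have := hcard j
    omega
  have hC : (Matrix.of fun i j => ∏ k ∈ univ.erase j, (1 - x i * y k)) = vandermonde x * K := by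
    ext i j
    rw [Matrix.mul_apply]
    simp only [vandermonde_apply, K, Matrix.of_apply]
    rw [Fin.sum_univ_eq_sum_range (fun l => x i ^ l * (P j).coeff l) n]
    have := eval_eq_sum_range' (hdeg j) (x i)
    rw [eval_prod] at this
    simp only [eval_sub, eval_one, eval_mul, eval_C, eval_X] at this
    simpa [mul_comm] using this
  let W := projVandermonde (fun _ : Fin n => (1 : D)) y
  have hWK : W * K = diagonal fun i => ∏ k ∈ univ.erase i, (y i - y k) := by
    ext i j
    rw [Matrix.mul_apply]
    simp only [W, K, Matrix.of_apply, projVandermonde_apply, one_pow, one_mul]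
    have e : ∀ l : Fin n, l.rev.val = n - 1 - l.val := fun l => by rw [Fin.val_rev]; omega
    simp only [e]
    rw [Fin.sum_univ_eq_sum_range (fun l => y i ^ (n - 1 - l) * (P j).coeff l) n]
    have := sum_pow_mul_coeff_prod y (y i) (univ.erase j)
    rw [hcard, show n - 1 + 1 = n by omega] at this
    simp only [P]
    rw [this]
    by_cases hij : i = j
    · subst hij; simp
    · rw [diagonal_apply_ne _ hij]
      exact prod_eq_zero (mem_erase.2 ⟨hij, mem_univ i⟩) (sub_self _)
  have hW : W.det = ∏ i : Fin n, ∏ j ∈ Ioi i, (y i - y j) := by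
    simp only [W, det_projVandermonde, one_mul]
  have hW0 : W.det ≠ 0 := by
    rw [hW]
    refine prod_ne_zero_iff.2 fun i _ => prod_ne_zero_iff.2 fun j hj => ?_
    exact sub_ne_zero.2 (hy.ne (ne_of_lt (mem_Ioi.1 hj)))
  have hK : K.det = (vandermonde y).det := by
    refine mul_left_cancel₀ hW0 ?_
    rw [← det_mul, hWK, det_diagonal, hW, det_vandermonde,
      prod_comm' (s := univ) (t := Ioi) (t' := univ) (s' := Iio) (f := fun i j => y j - y i) (by simp),
      ← prod_mul_distrib]
    refine prod_congr rfl fun i _ => ?_
    rw [← prod_union (disjoint_left.2 fun a ha hb => by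
      rw [mem_Ioi] at ha; rw [mem_Iio] at hb; exact lt_asymm ha hb)]
    refine prod_congr ?_ fun _ _ => rfl
    ext a
    simp only [mem_erase, mem_univ, and_true, mem_union, mem_Ioi, mem_Iio, ne_iff_lt_or_gt]
    exact or_comm
  rw [hC, det_mul, hK]

end CfsgLib.GLFlags
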