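import Mathlib
import Cfsg.Agent.Lib.GLFlags.Card
import Cfsg.Agent.Lib.GLFlags.PermChar
/-!
Degrees of the alternating sums of flag permutation characters.
-/
set_option autoImplicit false

namespace CfsgLib.GLFlags

open Finset Matrix

/-- The falling product `Q(l) Q(l-1) ⋯ Q(l-j+1)`. -/
def qFall (q l j : ℕ) : ℕ := ∏ s ∈ range j, qInt q (l - s)

theorem qFall_mul_qFact (q : ℕ) : ∀ {j l : ℕ}, j ≤ l → qFall q l j * qFact q (l - j) = qFact q l := by
  intro j
  induction j with
  | zero => intro l _; simp [qFall]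
  | succ j ih =>
    intro l hjl
    rw [← ih (Nat.le_of_succ_le hjl), qFall, prod_range_succ, ← qFall, mul_assoc]
    congr 1
    rw [show l - j = l - (j + 1) + 1 by omega, qFact, qFact, prod_range_succ, mul_comm]

theorem qFall_eq_zero (q : ℕ) {j l : ℕ} (h : l < j) : qFall q l j = 0 :=
  prod_eq_zero (mem_range.2 h) (by simp [qInt])

theorem qFall_scaled (q : ℕ) (l j : ℕ) :
    ((∏ s ∈ range j, q ^ s : ℕ) : ℂ) * (qFall q l j : ℂ) =
      ∏ s ∈ range j, ((qInt q l : ℂ) - (qInt q s : ℂ)) := by
  rcases lt_or_ge l j with h | h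
  · rw [qFall_eq_zero q h, Nat.cast_zero, mul_zero, eq_comm]
    exact prod_eq_zero (mem_range.2 h) (sub_self _)
  · rw [qFall]
    push_cast
    rw [← prod_mul_distrib]
    refine prod_congr rfl fun s hs => ?_
    rw [mem_range] at hs
    have e := qInt_add q s (l - s)
    rw [Nat.add_sub_cancel' (by omega)] at e
    rw [e]
    push_cast
    ring

theorem sum_sum_range_eq (n : ℕ) : ∑ j ∈ range n, ∑ s ∈ range j, s = n * (n - 1) * (n - 2) / 6 := by
  have key : ∀ n, (∑ j ∈ range n, ∑ s ∈ range j, s) * 6 = n * (n - 1) * (n - 2) := by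
    intro n
    induction n with
    | zero => simp
    | succ n ih =>
      have h2 := sum_range_id_mul_two n
      rw [sum_range_succ, add_mul, ih]
      rcases n with _ | _ | n
      · simp
      · simp
      · simp only [Nat.add_sub_cancel, show n + 1 + 1 - 2 = n by omega, show n + 1 + 1 + 1 - 2 = n + 1 by omega] at h2 ⊢
        linarith
  rw [← key n, Nat.mul_div_cancel _ (by norm_num)]

variable {F : Type*} [Field F] [Fintype F] {n : ℕ}

/-- The degree formula of the alternating sum of flag permutation characters. -/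
theorem unipotentCharacterGL_one_mul {ν : Fin n → ℕ} (hν : ∑ i, ν i = n) :
    Cfsg.unipotentCharacterGL n F ν 1 * (Fintype.card F : ℂ) ^ (n * (n - 1) * (n - 2) / 6) *
        ∏ i : Fin n, (qFact (Fintype.card F) (ν i + i.val) : ℂ) =
      (qFact (Fintype.card F) n : ℂ) * ∏ i : Fin n, ∏ j ∈ Ioi i,
        ((qInt (Fintype.card F) (ν j + j.val) : ℂ) - (qInt (Fintype.card F) (ν i + i.val) : ℂ)) := by
  classical
  set q := Fintype.card F
  let lam : Fin n → ℕ := fun i => ν i + i.val
  have h1 : Cfsg.unipotentCharacterGL n F ν 1 * ∏ i : Fin n, (qFact q (lam i) : ℂ) =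
      (qFact q n : ℂ) * ∑ κ : Equiv.Perm (Fin n), ((Equiv.Perm.sign κ : ℤ) : ℂ) *
        ∏ i, (qFall q (lam i) (κ i).val : ℂ) := by
    rw [Cfsg.unipotentCharacterGL, sum_mul, mul_sum]
    refine sum_congr rfl fun κ _ => ?_
    split_ifs with hκ
    · rw [fixedPointCharacter_one]
      have hsum : ∑ i : Fin n, (ν i + i.val - (κ i).val) = n := by
        rw [sum_tsub_distrib _ (fun i _ => hκ i), sum_add_distrib, hν, Equiv.sum_comp κ (fun i : Fin n => i.val)]
        omega
      have hidx := index_parabolicGL_mul (F := F) _ hsum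
      calc ((Equiv.Perm.sign κ : ℤ) : ℂ) * ((Cfsg.parabolicGL n F fun i => ν i + i.val - (κ i).val).index : ℂ) *
            ∏ i : Fin n, (qFact q (lam i) : ℂ)
          = ((Equiv.Perm.sign κ : ℤ) : ℂ) *
              (((Cfsg.parabolicGL n F fun i => ν i + i.val - (κ i).val).index *
                ∏ i : Fin n, qFact q (ν i + i.val - (κ i).val) : ℕ) : ℂ) *
              ∏ i, (qFall q (lam i) (κ i).val : ℂ) := by
            have e : ∀ i : Fin n, (qFact q (lam i) : ℂ) =
                (qFact q (ν i + i.val - (κ i).val) : ℂ) * (qFall q (lam i) (κ i).val : ℂ) := fun i => by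
              rw [← qFall_mul_qFact q (hκ i)]
              push_cast
              ring
            simp only [e, prod_mul_distrib]
            push_cast
            ring
        _ = _ := by rw [hidx]; ring
    · push Not at hκ
      obtain ⟨i, hi⟩ := hκ
      have hz : ∏ i, (qFall q (lam i) (κ i).val : ℂ) = 0 :=
        prod_eq_zero (mem_univ i) (by rw [qFall_eq_zero q hi]; simp)
      simp [hz]
  have h2 : ∑ κ : Equiv.Perm (Fin n), ((Equiv.Perm.sign κ : ℤ) : ℂ) * ∏ i, (qFall q (lam i) (κ i).val : ℂ) =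
      (Matrix.of fun i j : Fin n => (qFall q (lam i) j.val : ℂ)).det := by
    rw [← Matrix.det_transpose, Matrix.det_apply']
    rfl
  let p : Fin n → Polynomial ℂ := fun j => ∏ s ∈ range j.val, (Polynomial.X - Polynomial.C (qInt q s : ℂ))
  have hp : ∀ j, (p j).natDegree = j.val := fun j => by
    rw [Polynomial.natDegree_prod_of_monic _ _ (fun s _ => Polynomial.monic_X_sub_C _)]
    simp only [Polynomial.natDegree_X_sub_C]
    simp
  have hm : ∀ j, (p j).Monic := fun j => Polynomial.monic_prod_of_monic _ _ (fun s _ => Polynomial.monic_X_sub_C _)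
  have h3 : (q : ℂ) ^ (n * (n - 1) * (n - 2) / 6) * (Matrix.of fun i j : Fin n => (qFall q (lam i) j.val : ℂ)).det =
      (vandermonde fun i : Fin n => (qInt q (lam i) : ℂ)).det := by
    rw [det_eval_matrixOfPolynomials_eq_det_vandermonde _ p hp hm]
    have e : (Matrix.of fun i j : Fin n => (p j).eval (qInt q (lam i) : ℂ)) =
        Matrix.of fun i j : Fin n => ((∏ s ∈ range j.val, q ^ s : ℕ) : ℂ) * (qFall q (lam i) j.val : ℂ) := by
      ext i j
      simp only [Matrix.of_apply, p, Polynomial.eval_prod, Polynomial.eval_sub, Polynomial.eval_X, Polynomial.eval_C]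
      rw [qFall_scaled]
    rw [e]
    refine Eq.trans ?_ (Matrix.det_mul_row (fun j : Fin n => ((∏ s ∈ range j.val, q ^ s : ℕ) : ℂ))
      (Matrix.of fun i j : Fin n => (qFall q (lam i) j.val : ℂ))).symm
    congr 1
    rw [← Nat.cast_prod, Fin.prod_univ_eq_prod_range (fun j => ∏ s ∈ range j, q ^ s) n,
      prod_congr rfl (fun j _ => prod_pow_eq_pow_sum (range j) (fun s => s) q), prod_pow_eq_pow_sum, sum_sum_range_eq]
    push_cast
    rfl
  rw [det_vandermonde] at h3
  rw [mul_right_comm, h1, h2, mul_assoc, mul_comm (Matrix.det _), h3]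

theorem strictMono_lambda {ν : Fin n → ℕ} (hm : Monotone ν) : StrictMono fun i : Fin n => ν i + i.val :=
  fun _ _ h => add_lt_add_of_le_of_lt (hm h.le) (Fin.lt_def.1 h)

/-- The degree is a positive real number. -/
theorem unipotentCharacterGL_one_pos {ν : Fin n → ℕ} (hm : Monotone ν) (hν : ∑ i, ν i = n) :
    ∃ r : ℝ, 0 < r ∧ Cfsg.unipotentCharacterGL n F ν 1 = (r : ℂ) := by
  set q := Fintype.card F with hq
  have hq1 : 1 < q := Fintype.one_lt_card
  have hmono : ∀ a b, a < b → qInt q a < qInt q b := fun a b hab => by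
    obtain ⟨c, rfl⟩ := Nat.exists_eq_add_of_lt hab
    rw [show a + c + 1 = a + (c + 1) by omega, qInt_add]
    have : 0 < q ^ a * qInt q (c + 1) := Nat.mul_pos (Nat.pow_pos (by omega)) (qInt_pos q c.succ_pos)
    omega
  have h := unipotentCharacterGL_one_mul (F := F) hν
  rw [← hq] at h
  let A : ℕ := q ^ (n * (n - 1) * (n - 2) / 6) * ∏ i : Fin n, qFact q (ν i + i.val)
  let B : ℕ := qFact q n * ∏ i : Fin n, ∏ j ∈ Ioi i, (qInt q (ν j + j.val) - qInt q (ν i + i.val))
  have hA : 0 < A := Nat.mul_pos (Nat.pow_pos (by omega)) (prod_pos fun i _ => qFact_pos _ _)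
  have hB : 0 < B := Nat.mul_pos (qFact_pos _ _) (prod_pos fun i _ => prod_pos fun j hj =>
    Nat.sub_pos_of_lt (hmono _ _ (strictMono_lambda hm (mem_Ioi.1 hj))))
  have e : Cfsg.unipotentCharacterGL n F ν 1 * (A : ℂ) = (B : ℂ) := by
    simp only [A, B]
    push_cast
    rw [← mul_assoc, h]
    congr 1
    refine prod_congr rfl fun i _ => prod_congr rfl fun j hj => ?_
    rw [Nat.cast_sub (hmono _ _ (strictMono_lambda hm (mem_Ioi.1 hj))).le]
  refine ⟨(B : ℝ) / A, div_pos (by exact_mod_cast hB) (by exact_mod_cast hA), ?_⟩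
  push_cast
  rw [eq_div_iff (Nat.cast_ne_zero.2 hA.ne'), e]

end CfsgLib.GLFlags
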