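import Mathlib

/-!
The Möbius function of the lattice of invariant subspaces of a semisimple endomorphism of a finite space.
-/

set_option autoImplicit false

namespace CfsgLib.GLFlags.InvMoebius

open Polynomial Module

variable {F V : Type*} [Field F] [AddCommGroup V] [Module F V]

/-- The commuting maps between two endomorphisms. -/
def Homs {U A : Type*} [AddCommGroup U] [Module F U] [AddCommGroup A] [Module F A]
    (LU : Module.End F U) (LA : Module.End F A) : Type _ :=
  {φ : U →ₗ[F] A // φ ∘ₗ LU = LA ∘ₗ φ}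

section simple

variable {A : Type*} [AddCommGroup A] [Module F A] [FiniteDimensional F A]

/-- No invariant subspaces. -/
def IsSimp (L : Module.End F A) : Prop :=
  Nontrivial A ∧ ∀ W : Submodule F A, (∀ v ∈ W, L v ∈ W) → W = ⊥ ∨ W = ⊤

omit [FiniteDimensional F A] in
theorem aeval_X_mul (L : Module.End F A) (p : F[X]) (a : A) :
    aeval L (X * p) a = L (aeval L p a) := by
  rw [map_mul, aeval_X, Module.End.mul_apply]

omit [FiniteDimensional F A] in
theorem aeval_mul' (L : Module.End F A) (p r : F[X]) (a : A) :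
    aeval L (p * r) a = aeval L p (aeval L r a) := by
  rw [map_mul, Module.End.mul_apply]

/-- Evaluation at a vector. -/
noncomputable def evalAt (L : Module.End F A) (a : A) : F[X] →ₗ[F] A :=
  (LinearMap.applyₗ a).comp (aeval L).toLinearMap

omit [FiniteDimensional F A] in
theorem evalAt_apply (L : Module.End F A) (a : A) (p : F[X]) : evalAt L a p = aeval L p a := rfl

theorem simp_data {L : Module.End F A} (h : IsSimp L) :
    Irreducible L.charpoly ∧ ∀ a : A, a ≠ 0 → Function.Surjective (evalAt L a) := by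
  have := h.1
  have hsurj : ∀ a : A, a ≠ 0 → Function.Surjective (evalAt L a) := by
    intro a ha
    rw [← LinearMap.range_eq_top]
    refine (h.2 _ ?_).resolve_left fun e => ha ?_
    · rintro v ⟨p, rfl⟩
      exact ⟨X * p, aeval_X_mul L p a⟩
    · have : a ∈ LinearMap.range (evalAt L a) := ⟨1, by simp [evalAt_apply]⟩
      rwa [e, Submodule.mem_bot] at this
  refine ⟨?_, hsurj⟩
  have hint : IsIntegral F L := Algebra.IsIntegral.isIntegral L
  set m := minpoly F L with hm
  have hmu : ¬ IsUnit m := minpoly.not_isUnit F L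
  obtain ⟨f, hfm, hf, hfd⟩ := exists_monic_irreducible_factor m hmu
  obtain ⟨r, hr⟩ := hfd
  have hker : aeval L f = 0 := by
    rcases h.2 (LinearMap.ker (aeval L f)) (fun v hv => by
      rw [LinearMap.mem_ker] at hv ⊢
      rw [show L v = aeval L (X : F[X]) v by rw [aeval_X], ← aeval_mul', mul_comm, aeval_mul', hv,
        map_zero]) with e | e
    · exfalso
      have hr0 : aeval L r = 0 := LinearMap.ext fun v => by
        have h0 : aeval L f (aeval L r v) = 0 := by rw [← aeval_mul', ← hr, hm, minpoly.aeval]; rfl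
        exact LinearMap.ker_eq_bot.mp e (h0.trans (map_zero _).symm)
      have hrne : r ≠ 0 := fun e => minpoly.ne_zero hint (by rw [← hm, hr, e, mul_zero])
      have h1 := minpoly.natDegree_le (A := F) L
      have h2 := natDegree_le_of_dvd (minpoly.dvd F L hr0) hrne
      rw [← hm, hr, natDegree_mul hf.ne_zero hrne] at h2
      have := hf.natDegree_pos
      omega
    · exact LinearMap.ext fun v => LinearMap.mem_ker.mp (e ▸ Submodule.mem_top)
  have hmf : m = f :=
    eq_of_monic_of_associated (minpoly.monic hint) hfm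
      (associated_of_dvd_dvd (minpoly.dvd F L hker) ⟨r, hr⟩)
  obtain ⟨a, ha⟩ := exists_ne (0 : A)
  have hdim : finrank F A ≤ m.natDegree := by
    have hs : Function.Surjective ((evalAt L a).comp (degreeLT F m.natDegree).subtype) := by
      intro v
      obtain ⟨p, hp⟩ := hsurj a ha v
      have hmo := minpoly.monic hint
      refine ⟨⟨p %ₘ m, mem_degreeLT.mpr ((degree_modByMonic_lt p hmo).trans_eq (degree_eq_natDegree hmo.ne_zero))⟩, ?_⟩
      rw [LinearMap.comp_apply, Submodule.coe_subtype, ← hp, evalAt_apply, evalAt_apply]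
      conv_rhs => rw [← modByMonic_add_div p m]
      rw [map_add, LinearMap.add_apply, mul_comm, aeval_mul' L (p /ₘ m), minpoly.aeval]
      simp
    have : Module.Finite F (degreeLT F m.natDegree) := Module.Finite.equiv (degreeLTEquiv F _).symm
    have h1 := LinearMap.finrank_le_finrank_of_surjective hs
    rwa [(degreeLTEquiv F m.natDegree).finrank_eq, finrank_fin_fun] at h1
  have hc : L.charpoly = m :=
    (eq_of_monic_of_dvd_of_natDegree_le (minpoly.monic hint) L.charpoly_monic
      (LinearMap.minpoly_dvd_charpoly L) (by rwa [LinearMap.charpoly_natDegree]))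
  rw [hc, hmf]
  exact hf

open scoped Classical in
theorem card_homs_simp {B : Type*} [AddCommGroup B] [Module F B] [FiniteDimensional F B]
    {LB : Module.End F B} {LA : Module.End F A} (hB : IsSimp LB) (hA : IsSimp LA) :
    Nat.card (Homs LB LA) = if LB.charpoly = LA.charpoly then Nat.card A else 1 := by
  have := hB.1
  obtain ⟨b, hb⟩ := exists_ne (0 : B)
  obtain ⟨hirrB, hsB⟩ := simp_data hB
  obtain ⟨hirrA, -⟩ := simp_data hA
  have hev : ∀ (φ : Homs LB LA) (p : F[X]) (v : B), φ.1 (aeval LB p v) = aeval LA p (φ.1 v) := by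
    intro φ p v
    induction p using Polynomial.induction_on' with
    | add p r hp hr => simp [hp, hr]
    | monomial k c =>
      simp only [aeval_monomial, Module.algebraMap_end_apply, Module.End.mul_apply, map_smul]
      congr 1
      induction k with
      | zero => simp
      | succ k ih =>
        rw [pow_succ', pow_succ', Module.End.mul_apply, Module.End.mul_apply, ← ih]
        exact LinearMap.congr_fun φ.2 _
  by_cases hc : LB.charpoly = LA.charpoly
  · rw [if_pos hc]
    refine Nat.card_congr (Equiv.ofBijective (fun φ : Homs LB LA => φ.1 b) ⟨fun φ ψ h => ?_, fun a => ?_⟩)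
    · refine Subtype.ext (LinearMap.ext fun v => ?_)
      obtain ⟨p, rfl⟩ := hsB b hb v
      rw [evalAt_apply, hev, hev]
      exact congrArg _ h
    · have hk : LinearMap.ker (evalAt LB b) ≤ LinearMap.ker (evalAt LA a) := by
        intro p hp
        rw [LinearMap.mem_ker, evalAt_apply] at hp ⊢
        by_cases hd : LB.charpoly ∣ p
        · obtain ⟨r, rfl⟩ := hd
          rw [hc, aeval_mul', LinearMap.aeval_self_charpoly]
          rfl
        · exfalso
          obtain ⟨r, s, hrs⟩ := (hirrB.coprime_iff_not_dvd.mpr hd)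
          apply hb
          have : aeval LB (r * LB.charpoly + s * p) b = b := by rw [hrs]; simp
          rw [← this, map_add, LinearMap.add_apply, aeval_mul', aeval_mul', LinearMap.aeval_self_charpoly, hp]
          simp
      obtain ⟨g, hg⟩ := (evalAt LB b).exists_rightInverse_of_surjective (LinearMap.range_eq_top.mpr (hsB b hb))
      have hg' : ∀ v, evalAt LB b (g v) = v := fun v => LinearMap.congr_fun hg v
      have key : ∀ p v, evalAt LB b p = v → evalAt LA a (g v) = evalAt LA a p := fun p v h => by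
        rw [← sub_eq_zero, ← map_sub]
        exact LinearMap.mem_ker.mp (hk (LinearMap.mem_ker.mpr (by rw [map_sub, hg', h, sub_self])))
      refine ⟨⟨(evalAt LA a).comp g, LinearMap.ext fun v => ?_⟩, ?_⟩
      · show evalAt LA a (g (LB v)) = LA (evalAt LA a (g v))
        rw [key (X * g v) (LB v) (by rw [evalAt_apply, aeval_X_mul, ← evalAt_apply, hg']), evalAt_apply,
          aeval_X_mul]
        rfl
      · show evalAt LA a (g b) = a
        rw [key 1 b (by simp [evalAt_apply])]
        simp [evalAt_apply]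
  · rw [if_neg hc]
    have hone : ∀ φ : Homs LB LA, φ.1 = 0 := by
      intro φ
      obtain ⟨r, s, hrs⟩ := (hirrB.coprime_iff_not_dvd.mpr fun hd =>
        hc (eq_of_monic_of_associated LB.charpoly_monic LA.charpoly_monic
          (hirrB.associated_of_dvd hirrA hd)))
      refine LinearMap.ext fun v => ?_
      have : aeval LA (r * LB.charpoly + s * LA.charpoly) (φ.1 v) = φ.1 v := by rw [hrs]; simp
      rw [LinearMap.zero_apply, ← this, map_add, LinearMap.add_apply, aeval_mul', aeval_mul', ← hev,
        LinearMap.aeval_self_charpoly, LinearMap.aeval_self_charpoly]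
      simp
    have : Unique (Homs LB LA) :=
      ⟨⟨⟨0, by simp⟩⟩, fun φ => Subtype.ext (hone φ)⟩
    exact Nat.card_unique

end simple

/-- Invariance. -/
abbrev Inv (L : Module.End F V) (W : Submodule F V) : Prop := ∀ v ∈ W, L v ∈ W

/-- The restriction. -/
noncomputable abbrev res (L : Module.End F V) {W : Submodule F V} (h : Inv L W) : Module.End F W :=
  L.restrict h

theorem inv_sup {L : Module.End F V} {U W : Submodule F V} (hU : Inv L U) (hW : Inv L W) :
    Inv L (U ⊔ W) := by
  intro v hv
  obtain ⟨u, hu, w, hw, rfl⟩ := Submodule.mem_sup.mp hv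
  rw [map_add]
  exact Submodule.add_mem_sup (hU u hu) (hW w hw)

theorem inv_inf {L : Module.End F V} {U W : Submodule F V} (hU : Inv L U) (hW : Inv L W) :
    Inv L (U ⊓ W) := fun v hv => ⟨hU v hv.1, hW v hv.2⟩

/-- The addition map of two complements. -/
noncomputable def splitEquiv {T U A : Submodule F V} (hU : U ≤ T) (hA : A ≤ T) (hd : U ⊓ A = ⊥) (hs : U ⊔ A = T) :
    (U × A) ≃ₗ[F] T :=
  LinearEquiv.ofBijective ((Submodule.inclusion hU).coprod (Submodule.inclusion hA)) ⟨by
    rw [← LinearMap.ker_eq_bot, Submodule.eq_bot_iff]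
    rintro ⟨u, a⟩ h
    rw [LinearMap.mem_ker] at h
    have h' : (u : V) + a = 0 := by simpa using congrArg Subtype.val h
    have hu : (u : V) ∈ U ⊓ A := ⟨u.2, by rw [eq_neg_of_add_eq_zero_left h']; exact A.neg_mem a.2⟩
    rw [hd, Submodule.mem_bot] at hu
    rw [hu, zero_add] at h'
    ext <;> assumption, by
    rintro ⟨t, ht⟩
    obtain ⟨u, hu, a, ha, rfl⟩ := Submodule.mem_sup.mp (hs ▸ ht : t ∈ U ⊔ A)
    exact ⟨(⟨u, hu⟩, ⟨a, ha⟩), Subtype.ext (by simp)⟩⟩

theorem splitEquiv_apply {T U A : Submodule F V} (hU : U ≤ T) (hA : A ≤ T) (hd : U ⊓ A = ⊥) (hs : U ⊔ A = T)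
    (x : U × A) : (splitEquiv hU hA hd hs x : V) = x.1 + x.2 := rfl

theorem split_comm {L : Module.End F V} {T U A : Submodule F V} (hT : Inv L T) (iU : Inv L U) (iA : Inv L A)
    (hU : U ≤ T) (hA : A ≤ T) (hd : U ⊓ A = ⊥) (hs : U ⊔ A = T) :
    res L hT ∘ₗ (splitEquiv hU hA hd hs : U × A →ₗ[F] T) =
      (splitEquiv hU hA hd hs : U × A →ₗ[F] T) ∘ₗ (res L iU).prodMap (res L iA) := by
  refine LinearMap.ext fun x => Subtype.ext ?_
  show L (splitEquiv hU hA hd hs x : V) = (splitEquiv hU hA hd hs ((res L iU).prodMap (res L iA) x) : V)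
  rw [splitEquiv_apply, splitEquiv_apply, map_add]
  rfl

variable [Finite V]

theorem charpoly_split {L : Module.End F V} {T U A : Submodule F V} (hT : Inv L T) (iU : Inv L U) (iA : Inv L A)
    (hU : U ≤ T) (hA : A ≤ T) (hd : U ⊓ A = ⊥) (hs : U ⊔ A = T) :
    (res L hT).charpoly = (res L iU).charpoly * (res L iA).charpoly := by
  rw [← LinearMap.charpoly_prodMap, ← (splitEquiv hU hA hd hs).charpoly_conj]
  congr 1
  refine LinearMap.ext fun t => ?_
  obtain ⟨x, rfl⟩ := (splitEquiv hU hA hd hs).surjective t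
  have := LinearMap.congr_fun (split_comm hT iU iA hU hA hd hs) x
  simpa [LinearEquiv.conj_apply] using this

theorem card_homs_split {L : Module.End F V} {T U A : Submodule F V} {W : Type*} [AddCommGroup W] [Module F W]
    (LW : Module.End F W) (hT : Inv L T) (iU : Inv L U) (iA : Inv L A)
    (hU : U ≤ T) (hA : A ≤ T) (hd : U ⊓ A = ⊥) (hs : U ⊔ A = T) :
    Nat.card (Homs (res L hT) LW) = Nat.card (Homs (res L iU) LW) * Nat.card (Homs (res L iA) LW) := by
  set e := splitEquiv hU hA hd hs with he
  have hc := split_comm hT iU iA hU hA hd hs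
  rw [← Nat.card_prod]
  refine Nat.card_congr
    { toFun := fun φ => (⟨φ.1 ∘ₗ e.toLinearMap ∘ₗ LinearMap.inl F U A, ?_⟩,
        ⟨φ.1 ∘ₗ e.toLinearMap ∘ₗ LinearMap.inr F U A, ?_⟩)
      invFun := fun ψ => ⟨(ψ.1.1.coprod ψ.2.1) ∘ₗ e.symm.toLinearMap, ?_⟩
      left_inv := fun φ => ?_
      right_inv := fun ψ => ?_ }
  · refine LinearMap.ext fun u => ?_
    have h1 := LinearMap.congr_fun hc (u, 0)
    have h2 := LinearMap.congr_fun φ.2 (e (u, 0))
    simp only [LinearMap.comp_apply, LinearEquiv.coe_coe, LinearMap.prodMap_apply, map_zero] at h1 h2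
    simp only [LinearMap.comp_apply, LinearEquiv.coe_coe, LinearMap.inl_apply]
    rw [← h2, h1]
  · refine LinearMap.ext fun u => ?_
    have h1 := LinearMap.congr_fun hc (0, u)
    have h2 := LinearMap.congr_fun φ.2 (e (0, u))
    simp only [LinearMap.comp_apply, LinearEquiv.coe_coe, LinearMap.prodMap_apply, map_zero] at h1 h2
    simp only [LinearMap.comp_apply, LinearEquiv.coe_coe, LinearMap.inr_apply]
    rw [← h2, h1]
  · refine LinearMap.ext fun t => ?_
    obtain ⟨⟨u, a⟩, rfl⟩ := e.surjective t
    have h1 := LinearMap.congr_fun hc (u, a)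
    simp only [LinearMap.comp_apply, LinearEquiv.coe_coe, LinearMap.prodMap_apply] at h1
    simp only [LinearMap.comp_apply, LinearEquiv.coe_coe]
    rw [h1, e.symm_apply_apply, e.symm_apply_apply, LinearMap.coprod_apply, LinearMap.coprod_apply, map_add]
    exact congrArg₂ (· + ·) (LinearMap.congr_fun ψ.1.2 u) (LinearMap.congr_fun ψ.2.2 a)
  · refine Subtype.ext (LinearMap.ext fun t => ?_)
    obtain ⟨⟨u, a⟩, rfl⟩ := e.surjective t
    simp [← map_add]
  · refine Prod.ext (Subtype.ext (LinearMap.ext fun u => ?_)) (Subtype.ext (LinearMap.ext fun u => ?_)) <;>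
      simp

/-- Inside an invariant subspace every invariant subspace has an invariant complement. -/
theorem exists_compl {L : Module.End F V} (hL : L.IsSemisimple) {T B : Submodule F V} (hT : Inv L T) (hB : Inv L B)
    (hBT : B ≤ T) : ∃ C, Inv L C ∧ C ≤ T ∧ C ⊓ B = ⊥ ∧ C ⊔ B = T := by
  obtain ⟨C, hC, hc⟩ := Module.End.isSemisimple_iff.mp hL B (fun v hv => hB v hv)
  refine ⟨C ⊓ T, inv_inf (fun v hv => hC hv) hT, inf_le_right, ?_, ?_⟩
  · rw [inf_right_comm, inf_comm C, hc.inf_eq_bot, bot_inf_eq]
  · rw [inf_comm, inf_sup_assoc_of_le C hBT, sup_comm, hc.sup_eq_top, inf_top_eq]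

/-- An invariant subspace contains a simple one. -/
theorem exists_atom {L : Module.End F V} {T : Submodule F V} (hT : Inv L T) (h : T ≠ ⊥) :
    ∃ A, ∃ hA : Inv L A, A ≤ T ∧ A ≠ ⊥ ∧ (∀ U, Inv L U → U ≤ A → U = ⊥ ∨ U = A) ∧ IsSimp (res L hA) := by
  obtain ⟨A, ⟨hA1, hA2, hA3⟩, hmin⟩ := (Set.toFinite {A : Submodule F V | Inv L A ∧ A ≤ T ∧ A ≠ ⊥}).exists_minimal
    ⟨T, hT, le_rfl, h⟩
  have hat : ∀ U, Inv L U → U ≤ A → U = ⊥ ∨ U = A := fun U hU hUA => by
    by_cases hU0 : U = ⊥
    · exact Or.inl hU0
    · exact Or.inr (le_antisymm hUA (hmin ⟨hU, hUA.trans hA2, hU0⟩ hUA))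
  refine ⟨A, hA1, hA2, hA3, hat, Submodule.nontrivial_iff_ne_bot.mpr hA3, fun W hW => ?_⟩
  rcases hat (W.map A.subtype) (by
    rintro v ⟨w, hw, rfl⟩
    exact ⟨res L hA1 w, hW w hw, rfl⟩) (Submodule.map_subtype_le A W) with e | e
  · exact Or.inl (Submodule.map_injective_of_injective A.injective_subtype (by rw [e, Submodule.map_bot]))
  · exact Or.inr (Submodule.map_injective_of_injective A.injective_subtype (by rw [e, Submodule.map_subtype_top]))

theorem charpoly_bot (L : Module.End F V) (h : Inv L ⊥) : (res L h).charpoly = 1 :=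
  (LinearMap.charpoly_monic _).natDegree_eq_zero.mp (by rw [LinearMap.charpoly_natDegree, finrank_bot])

open UniqueFactorizationMonoid in
theorem count_mul_irreducible [DecidableEq F] {P f g : F[X]} (hP : P ≠ 0) (hg : Irreducible g) (hgm : g.Monic) :
    (normalizedFactors (P * g)).count f = (normalizedFactors P).count f + if f = g then 1 else 0 := by
  rw [normalizedFactors_mul hP hg.ne_zero, normalizedFactors_irreducible hg, hgm.normalize_eq_self,
    Multiset.count_add, Multiset.count_singleton]

variable [Fintype F]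

open UniqueFactorizationMonoid in
theorem card_homs [DecidableEq F] {L : Module.End F V} (hL : L.IsSemisimple) {A : Submodule F V} (hA : Inv L A)
    (hs : IsSimp (res L hA)) : ∀ (k : ℕ) (U : Submodule F V) (hU : Inv L U), finrank F U = k →
      Nat.card (Homs (res L hU) (res L hA)) = Fintype.card F ^
        ((res L hA).charpoly.natDegree * (normalizedFactors (res L hU).charpoly).count (res L hA).charpoly) := by
  intro k
  induction k using Nat.strong_induction_on with
  | _ k ih =>
    intro U hU hk
    by_cases h0 : U = ⊥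
    · subst h0
      have : Unique (Homs (res L hU) (res L hA)) :=
        ⟨⟨⟨0, by simp⟩⟩, fun φ => Subtype.ext (LinearMap.ext fun x => by
          rw [Subsingleton.elim x 0, map_zero, map_zero])⟩
      simp [charpoly_bot L hU, Nat.card_unique]
    · obtain ⟨B, hB, hBU, hB0, -, hBs⟩ := exists_atom hU h0
      obtain ⟨C, hC, hCU, hd, hsup⟩ := exists_compl hL hU hB hBU
      have hlt : C < U := lt_of_le_of_ne hCU fun e => hB0 (by
        rw [e, inf_eq_right.mpr hBU] at hd; exact hd)
      obtain ⟨hirr, -⟩ := simp_data hBs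
      rw [card_homs_split (res L hA) hU hC hB hCU hBU hd hsup, ih _ (hk ▸ Submodule.finrank_lt_finrank_of_lt hlt) C hC rfl,
        card_homs_simp hBs hs, charpoly_split hU hC hB hCU hBU hd hsup,
        count_mul_irreducible (LinearMap.charpoly_monic _).ne_zero hirr (LinearMap.charpoly_monic _),
        mul_add, pow_add]
      congr 1
      by_cases he : (res L hB).charpoly = (res L hA).charpoly
      · rw [if_pos he, if_pos he.symm, mul_one, Module.natCard_eq_pow_finrank (K := F), Nat.card_eq_fintype_card,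
          LinearMap.charpoly_natDegree]
      · rw [if_neg he, if_neg (Ne.symm he), mul_zero, pow_zero]

/-- Complements of a simple subspace correspond to commuting maps from one of them. -/
theorem card_compl {L : Module.End F V} {T A U₀ : Submodule F V} (hA : Inv L A) (hU₀ : Inv L U₀) (hAT : A ≤ T)
    (hUT : U₀ ≤ T) (hd : U₀ ⊓ A = ⊥) (hs : U₀ ⊔ A = T) :
    Nat.card {U : Submodule F V // Inv L U ∧ U ⊓ A = ⊥ ∧ U ⊔ A = T} = Nat.card (Homs (res L hU₀) (res L hA)) := by
  symm
  refine Nat.card_congr (Equiv.ofBijective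
    (fun φ => ⟨LinearMap.range (U₀.subtype + A.subtype ∘ₗ φ.1), ?_, ?_, ?_⟩) ⟨?_, ?_⟩)
  · rintro v ⟨u, rfl⟩
    refine ⟨res L hU₀ u, ?_⟩
    simp only [LinearMap.add_apply, LinearMap.comp_apply, Submodule.coe_subtype, map_add]
    rw [show φ.1 (res L hU₀ u) = res L hA (φ.1 u) from LinearMap.congr_fun φ.2 u]
    rfl
  · rw [Submodule.eq_bot_iff]
    rintro v ⟨⟨u, rfl⟩, hv⟩
    have hu : (u : V) ∈ U₀ ⊓ A := ⟨u.2, by simpa using A.sub_mem hv (φ.1 u).2⟩
    rw [hd, Submodule.mem_bot] at hu
    simp [Subtype.ext hu (a2 := (0 : U₀))]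
  · refine le_antisymm (sup_le ?_ hAT) ?_
    · rintro v ⟨u, rfl⟩
      exact T.add_mem (hUT u.2) (hAT (φ.1 u).2)
    · intro t ht
      obtain ⟨u, hu, a, ha, rfl⟩ := Submodule.mem_sup.mp (hs ▸ ht : t ∈ U₀ ⊔ A)
      refine Submodule.mem_sup.mpr ⟨_, ⟨⟨u, hu⟩, rfl⟩, a - φ.1 ⟨u, hu⟩, A.sub_mem ha (φ.1 ⟨u, hu⟩).2, ?_⟩
      simp
  · intro φ ψ h
    refine Subtype.ext (LinearMap.ext fun u => Subtype.ext ?_)
    obtain ⟨u', hu'⟩ := (Subtype.ext_iff.mp h).le ⟨u, rfl⟩
    simp at hu'
    have hm : (u' : V) - u ∈ U₀ ⊓ A := ⟨U₀.sub_mem u'.2 u.2, by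
      rw [show (u' : V) - u = (φ.1 u : V) - ψ.1 u' by linear_combination (norm := module) hu']
      exact A.sub_mem (φ.1 u).2 (ψ.1 u').2⟩
    rw [hd, Submodule.mem_bot, sub_eq_zero] at hm
    obtain rfl : u' = u := Subtype.ext hm
    simpa using hu'.symm
  · rintro ⟨U, hU, hUA, hUs⟩
    obtain ⟨C, hC⟩ := Submodule.exists_isCompl T
    have hcompl : IsCompl A (U ⊔ C) := by
      constructor
      · rw [Submodule.disjoint_def]
        intro a ha hac
        obtain ⟨u, hu, c, hc, rfl⟩ := Submodule.mem_sup.mp hac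
        have hcT : c ∈ T ⊓ C := ⟨by
          have := T.sub_mem (hAT ha) (hUs ▸ Submodule.mem_sup_left hu : u ∈ T)
          rwa [add_sub_cancel_left] at this, hc⟩
        rw [hC.inf_eq_bot, Submodule.mem_bot] at hcT
        rw [hcT, add_zero] at ha ⊢
        exact (Submodule.mem_bot F).mp (hUA ▸ ⟨hu, ha⟩)
      · rw [codisjoint_iff, ← sup_assoc, sup_comm A, hUs, hC.sup_eq_top]
    set P := A.projectionOnto (U ⊔ C) hcompl with hP
    have hmem : ∀ u ∈ T, u - (P u : V) ∈ U := by
      intro u hu
      obtain ⟨w, hw, a, ha, rfl⟩ := Submodule.mem_sup.mp (hUs ▸ hu : u ∈ U ⊔ A)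
      rw [map_add, hP, Submodule.projectionOnto_apply_of_mem_right hcompl (Submodule.mem_sup_left hw),
        Submodule.projectionOnto_apply_left hcompl ⟨a, ha⟩, zero_add]
      simpa using hw
    refine ⟨⟨-(P ∘ₗ U₀.subtype), LinearMap.ext fun u => Subtype.ext ?_⟩, Subtype.ext (le_antisymm ?_ ?_)⟩
    · show (-(P (L u)) : V) = L (-(P u) : V)
      have h1 := hmem _ (hUT (hU₀ u u.2))
      have h2 := hU _ (hmem _ (hUT u.2))
      rw [map_sub] at h2
      have h3 : L (P u : V) - (P (L u) : V) ∈ U ⊓ A := ⟨by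
        have := U.sub_mem h1 h2
        simpa using this, A.sub_mem (hA _ (P u).2) (P (L u)).2⟩
      rw [hUA, Submodule.mem_bot, sub_eq_zero] at h3
      simp [h3]
    · rintro v ⟨u, rfl⟩
      simpa [sub_eq_add_neg] using hmem _ (hUT u.2)
    · intro v hv
      obtain ⟨u, hu, a, ha, rfl⟩ := Submodule.mem_sup.mp (hs ▸ (hUs ▸ Submodule.mem_sup_left hv) : v ∈ U₀ ⊔ A)
      refine ⟨⟨u, hu⟩, ?_⟩
      have h1 := hmem u (hUT hu)
      have h3 : a + (P u : V) ∈ U ⊓ A := ⟨by simpa using U.sub_mem hv h1, A.add_mem ha (P u).2⟩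
      rw [hUA, Submodule.mem_bot] at h3
      simp [eq_neg_of_add_eq_zero_left h3]

/-- The invariant subspaces strictly below. -/
noncomputable def below (L : Module.End F V) (W : Submodule F V) : Finset (Submodule F V) :=
  (Set.toFinite {U | Inv L U ∧ U < W}).toFinset

omit [Fintype F] in
theorem mem_below {L : Module.End F V} {U W : Submodule F V} : U ∈ below L W ↔ Inv L U ∧ U < W := by
  simp [below]

open scoped Classical in
/-- The Möbius function from the bottom. -/
noncomputable def M (L : Module.End F V) (W : Submodule F V) : ℤ :=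
  if W = ⊥ then 1 else -∑ U ∈ (below L W).attach, M L U.1
termination_by finrank F W
decreasing_by exact Submodule.finrank_lt_finrank_of_lt (mem_below.mp U.2).2

omit [Fintype F] in
theorem M_bot (L : Module.End F V) : M L ⊥ = 1 := by rw [M, if_pos rfl]

omit [Fintype F] in
theorem M_eq (L : Module.End F V) {W : Submodule F V} (h : W ≠ ⊥) : M L W = -∑ U ∈ below L W, M L U := by
  rw [M, if_neg h, Finset.sum_attach (below L W) (fun U => M L U)]

/-- The invariant subspaces joining with `A` to `T`. -/
noncomputable def joins (L : Module.End F V) (A T : Submodule F V) : Finset (Submodule F V) :=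
  (Set.toFinite {U | Inv L U ∧ U ⊔ A = T}).toFinset

omit [Fintype F] in
theorem weisner {L : Module.End F V} {A : Submodule F V} (hA : Inv L A) (hA0 : A ≠ ⊥) :
    ∀ (k : ℕ) (T : Submodule F V), Inv L T → A ≤ T → finrank F T = k → ∑ U ∈ joins L A T, M L U = 0 := by
  classical
  intro k
  induction k using Nat.strong_induction_on with
  | _ k ih =>
    intro T hT hAT hk
    have hT0 : T ≠ ⊥ := fun e => hA0 (le_bot_iff.mp (e ▸ hAT))
    have htot : ∑ U ∈ insert T (below L T), M L U = 0 := by
      rw [Finset.sum_insert (fun h => lt_irrefl _ (mem_below.mp h).2), M_eq L hT0, neg_add_cancel]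
    let R : Finset (Submodule F V) := (Set.toFinite {W | Inv L W ∧ A ≤ W ∧ W ≤ T}).toFinset
    have hfib : ∀ W ∈ R, (insert T (below L T)).filter (fun U => U ⊔ A = W) = joins L A W := by
      intro W hW
      simp only [R, Set.Finite.mem_toFinset, Set.mem_ofPred_eq] at hW
      ext U
      simp only [Finset.mem_filter, Finset.mem_insert, mem_below, joins, Set.Finite.mem_toFinset, Set.mem_ofPred_eq]
      constructor
      · rintro ⟨rfl | ⟨hU, -⟩, e⟩
        · exact ⟨hT, e⟩
        · exact ⟨hU, e⟩
      · rintro ⟨hU, e⟩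
        refine ⟨?_, e⟩
        rcases (le_sup_left.trans (e.le.trans hW.2.2) : U ≤ T).lt_or_eq with h | h
        · exact Or.inr ⟨hU, h⟩
        · exact Or.inl h
    rw [← Finset.sum_fiberwise_of_maps_to (t := R) (g := fun U => U ⊔ A) (fun U hU => by
      simp only [Finset.mem_insert, mem_below] at hU
      simp only [R, Set.Finite.mem_toFinset, Set.mem_ofPred_eq]
      rcases hU with rfl | ⟨hU, hlt⟩
      · exact ⟨inv_sup hT hA, le_sup_right, sup_le le_rfl hAT⟩
      · exact ⟨inv_sup hU hA, le_sup_right, sup_le hlt.le hAT⟩)] at htot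
    rw [Finset.sum_eq_single_of_mem T (by simp only [R, Set.Finite.mem_toFinset, Set.mem_ofPred_eq]; exact ⟨hT, hAT, le_rfl⟩) (fun W hW hne => by
      rw [hfib W hW]
      simp only [R, Set.Finite.mem_toFinset, Set.mem_ofPred_eq] at hW
      exact ih _ (hk ▸ Submodule.finrank_lt_finrank_of_lt (lt_of_le_of_ne hW.2.2 hne)) W hW.1 hW.2.1 rfl)] at htot
    rwa [hfib T (by simp only [R, Set.Finite.mem_toFinset, Set.mem_ofPred_eq]; exact ⟨hT, hAT, le_rfl⟩)] at htot

open UniqueFactorizationMonoid in
/-- The closed formula. -/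
noncomputable def formula [DecidableEq F] (q : ℕ) (P : F[X]) : ℤ :=
  ∏ f ∈ (normalizedFactors P).toFinset,
    (-1) ^ (normalizedFactors P).count f *
      (q : ℤ) ^ (f.natDegree * (normalizedFactors P).count f * ((normalizedFactors P).count f - 1) / 2)

omit [Fintype F] in
open UniqueFactorizationMonoid in
theorem formula_mul [DecidableEq F] (q : ℕ) {P g : F[X]} (hP : P ≠ 0) (hg : Irreducible g) (hgm : g.Monic) :
    formula q (P * g) = -(q : ℤ) ^ (g.natDegree * (normalizedFactors P).count g) * formula q P := by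
  set S := normalizedFactors P with hS
  let w : F[X] → ℕ → ℤ := fun f m => (-1) ^ m * (q : ℤ) ^ (f.natDegree * m * (m - 1) / 2)
  have h1 : formula q P = ∏ f ∈ insert g S.toFinset, w f (S.count f) :=
    Finset.prod_subset (Finset.subset_insert _ _) (fun f _ hf => by
      rw [Multiset.mem_toFinset, ← Multiset.count_eq_zero] at hf
      simp [hf])
  have h2 : formula q (P * g) = ∏ f ∈ insert g S.toFinset, w f (S.count f + if f = g then 1 else 0) := by
    refine Finset.prod_congr ?_ fun f _ => ?_
    · ext f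
      rw [normalizedFactors_mul hP hg.ne_zero, normalizedFactors_irreducible hg, hgm.normalize_eq_self]
      simp [or_comm, hS]
    · rw [count_mul_irreducible hP hg hgm]
  rw [h1, h2, ← Finset.mul_prod_erase _ _ (Finset.mem_insert_self _ _),
    ← Finset.mul_prod_erase _ (fun f => w f (S.count f)) (Finset.mem_insert_self _ _), if_pos rfl,
    Finset.prod_congr rfl (fun f hf => by rw [if_neg (Finset.ne_of_mem_erase hf), add_zero]), ← mul_assoc]
  congr 1
  simp only [w]
  set d := g.natDegree
  set m := S.count g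
  have he : d * (m + 1) * (m + 1 - 1) / 2 = d * m + d * m * (m - 1) / 2 := by
    rw [Nat.add_sub_cancel, show d * (m + 1) * m = d * m * (m - 1) + d * m * 2 by
      rcases m with _ | m
      · simp
      · rw [Nat.add_sub_cancel]; ring, Nat.add_mul_div_right _ _ two_pos, add_comm]
  rw [he, pow_add, pow_succ]
  ring

/-- The Möbius function of the invariant subspace lattice of a semisimple endomorphism. -/
theorem M_eq_formula [DecidableEq F] {L : Module.End F V} (hL : L.IsSemisimple) :
    ∀ (k : ℕ) (T : Submodule F V) (hT : Inv L T), finrank F T = k →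
      M L T = formula (Fintype.card F) (res L hT).charpoly := by
  classical
  intro k
  induction k using Nat.strong_induction_on with
  | _ k ih =>
    intro T hT hk
    by_cases h0 : T = ⊥
    · subst h0
      simp [M_bot, charpoly_bot L hT, formula]
    obtain ⟨A, hA, hAT, hA0, hat, hAs⟩ := exists_atom hT h0
    obtain ⟨U₀, hU₀, hU₀T, hd, hs⟩ := exists_compl hL hT hA hAT
    have hg := (simp_data hAs).1
    set g := (res L hA).charpoly
    set P := (res L hU₀).charpoly
    have hsum := weisner hA hA0 k T hT hAT hk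
    set K : Finset (Submodule F V) := (Set.toFinite {U | Inv L U ∧ U ⊓ A = ⊥ ∧ U ⊔ A = T}).toFinset with hK
    have hj : joins L A T = insert T K := by
      ext U
      simp only [joins, K, Finset.mem_insert, Set.Finite.mem_toFinset, Set.mem_ofPred_eq]
      constructor
      · rintro ⟨hU, e⟩
        rcases hat (U ⊓ A) (inv_inf hU hA) inf_le_right with h | h
        · exact Or.inr ⟨hU, h, e⟩
        · left; rw [← e, sup_eq_left.mpr (inf_eq_right.mp h)]
      · rintro (rfl | ⟨hU, -, e⟩)
        · exact ⟨hT, sup_eq_left.mpr hAT⟩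
        · exact ⟨hU, e⟩
    have hTK : T ∉ K := by simp [K, inf_eq_right.mpr hAT, hA0]
    have hval : ∀ U ∈ K, M L U = formula (Fintype.card F) P := by
      intro U hU
      simp only [K, Set.Finite.mem_toFinset, Set.mem_ofPred_eq] at hU
      obtain ⟨hU, hUA, hUs⟩ := hU
      have hUT : U ≤ T := hUs ▸ le_sup_left
      have hlt : U < T := lt_of_le_of_ne hUT fun e => hA0 (by rwa [e, inf_eq_right.mpr hAT] at hUA)
      rw [ih _ (hk ▸ Submodule.finrank_lt_finrank_of_lt hlt) U hU rfl]
      congr 1
      have e1 := charpoly_split hT hU hA hUT hAT hUA hUs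
      rw [charpoly_split hT hU₀ hA hU₀T hAT hd hs] at e1
      exact (mul_right_cancel₀ hg.ne_zero e1).symm
    have hcard : (K.card : ℤ) = (Fintype.card F : ℤ) ^
        (g.natDegree * (UniqueFactorizationMonoid.normalizedFactors P).count g) := by
      rw [← Nat.cast_pow, ← card_homs hL hA hAs _ U₀ hU₀ rfl, ← card_compl hA hU₀ hAT hU₀T hd hs, hK]
      congr 1
      rw [← Nat.card_eq_finsetCard]
      exact Nat.card_congr (Equiv.subtypeEquivRight fun U => by simp)
    rw [hj, Finset.sum_insert hTK, Finset.sum_congr rfl hval, Finset.sum_const, nsmul_eq_mul, hcard] at hsum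
    rw [charpoly_split hT hU₀ hA hU₀T hAT hd hs,
      formula_mul _ (LinearMap.charpoly_monic _).ne_zero hg (LinearMap.charpoly_monic _)]
    linarith

/-- The chains of invariant subspaces strictly between the bottom and `W`. -/
noncomputable def chains (L : Module.End F V) (W : Submodule F V) : Finset (Finset (Submodule F V)) :=
  (Set.toFinite {C : Finset (Submodule F V) |
    (∀ U ∈ C, Inv L U ∧ U ≠ ⊥ ∧ U < W) ∧ IsChain (· ≤ ·) (C : Set (Submodule F V))}).toFinset

omit [Fintype F] in
theorem mem_chains {L : Module.End F V} {W : Submodule F V} {C : Finset (Submodule F V)} :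
    C ∈ chains L W ↔ (∀ U ∈ C, Inv L U ∧ U ≠ ⊥ ∧ U < W) ∧ IsChain (· ≤ ·) (C : Set (Submodule F V)) := by
  simp [chains]

omit [Fintype F] [Finite V] in
theorem sup_mem_of_chain {C : Finset (Submodule F V)} (hC : IsChain (· ≤ ·) (C : Set (Submodule F V)))
    (hne : C.Nonempty) : C.sup id ∈ C := by
  classical
  obtain ⟨U, hU, hmax⟩ := C.exists_maximal hne
  have : C.sup id = U := le_antisymm (Finset.sup_le fun W hW => by
    rcases hC.total hW hU with h | h
    · exact h
    · exact hmax hW h) (Finset.le_sup (f := id) hU)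
  rwa [this]

omit [Fintype F] in
/-- Philip Hall's chain formula. -/
theorem sum_chains (L : Module.End F V) :
    ∀ (k : ℕ) (W : Submodule F V), Inv L W → W ≠ ⊥ → finrank F W = k →
      ∑ C ∈ chains L W, (-1 : ℤ) ^ (C.card + 1) = M L W := by
  classical
  intro k
  induction k using Nat.strong_induction_on with
  | _ k ih =>
    intro W hW hW0 hk
    have hb : Inv L ⊥ := fun v hv => by rw [(Submodule.mem_bot F).mp hv, map_zero]; exact zero_mem _
    have hmaps : ∀ C ∈ chains L W, C.sup id ∈ below L W := by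
      intro C hC
      rw [mem_chains] at hC
      rw [mem_below]
      rcases C.eq_empty_or_nonempty with rfl | hne
      · exact ⟨hb, by simpa using bot_lt_iff_ne_bot.mpr hW0⟩
      · have := hC.1 _ (sup_mem_of_chain hC.2 hne)
        exact ⟨this.1, this.2.2⟩
    rw [← Finset.sum_fiberwise_of_maps_to hmaps, M_eq L hW0, ← Finset.sum_neg_distrib]
    refine Finset.sum_congr rfl fun U hU => ?_
    rw [mem_below] at hU
    by_cases hU0 : U = ⊥
    · subst hU0
      rw [M_bot, Finset.sum_eq_single_of_mem (∅ : Finset (Submodule F V)) (by simp [mem_chains]) ?_]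
      · simp
      · intro C hC hne
        simp only [Finset.mem_filter, mem_chains] at hC
        have hne' := Finset.nonempty_iff_ne_empty.mpr hne
        exact absurd hC.2 (hC.1.1 _ (sup_mem_of_chain hC.1.2 hne')).2.1
    · rw [← ih _ (hk ▸ Submodule.finrank_lt_finrank_of_lt hU.2) U hU.1 hU0 rfl, ← Finset.sum_neg_distrib]
      refine Finset.sum_nbij' (fun C => C.erase U) (fun C => insert U C) ?_ ?_ ?_ ?_ ?_
      · intro C hC
        simp only [Finset.coe_filter, Set.mem_ofPred_eq, Finset.mem_filter, mem_chains, Finset.mem_coe] at hC ⊢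
        obtain ⟨⟨h1, h2⟩, h3⟩ := hC
        refine ⟨fun X hX => ?_, h2.mono (by simp)⟩
        rw [Finset.mem_erase] at hX
        exact ⟨(h1 X hX.2).1, (h1 X hX.2).2.1, lt_of_le_of_ne (h3 ▸ Finset.le_sup (f := id) hX.2) hX.1⟩
      · intro C hC
        simp only [Finset.coe_filter, Set.mem_ofPred_eq, Finset.mem_filter, mem_chains, Finset.mem_coe] at hC ⊢
        obtain ⟨h1, h2⟩ := hC
        refine ⟨⟨fun X hX => ?_, ?_⟩, ?_⟩
        · rw [Finset.mem_insert] at hX
          rcases hX with rfl | hX
          · exact ⟨hU.1, hU0, hU.2⟩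
          · exact ⟨(h1 X hX).1, (h1 X hX).2.1, (h1 X hX).2.2.trans hU.2⟩
        · rw [Finset.coe_insert]
          exact h2.insert fun X hX _ => Or.inr (h1 X hX).2.2.le
        · rw [Finset.sup_insert, id, sup_eq_left]
          exact Finset.sup_le fun X hX => (h1 X hX).2.2.le
      · intro C hC
        simp only [Finset.coe_filter, Set.mem_ofPred_eq, Finset.mem_filter, mem_chains, Finset.mem_coe] at hC
        apply Finset.insert_erase
        rw [← hC.2]
        refine sup_mem_of_chain hC.1.2 (Finset.nonempty_iff_ne_empty.mpr fun e => hU0 ?_)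
        rw [← hC.2, e, Finset.sup_empty]
      · intro C hC
        simp only [Finset.mem_coe, mem_chains] at hC
        exact Finset.erase_insert fun h => lt_irrefl _ (hC.1 U h).2.2
      · intro C hC
        simp only [Finset.coe_filter, Set.mem_ofPred_eq, Finset.mem_filter, mem_chains, Finset.mem_coe] at hC
        have hUC : U ∈ C := by
          rw [← hC.2]
          refine sup_mem_of_chain hC.1.2 (Finset.nonempty_iff_ne_empty.mpr fun e => hU0 ?_)
          rw [← hC.2, e, Finset.sup_empty]
        rw [Finset.card_erase_of_mem hUC]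
        have := Finset.card_pos.mpr ⟨U, hUC⟩
        rw [show C.card - 1 + 1 = C.card by omega, pow_succ]
        ring

end CfsgLib.GLFlags.InvMoebius
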