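import Mathlib
import Cfsg.Agent.Lib.GLFlags.Labels
import Cfsg.Agent.Lib.GLFlags.Cauchy
/-!
The generating series of tables with given margins and the orthonormality of the alternating sums.
-/
set_option autoImplicit false

namespace CfsgLib.GLFlags

open Finset

variable {n : ℕ}

/-- Tables supported on `S` with the margins `d`. -/
def Supported (S : Finset (Fin n × Fin n)) (d : Fin n ⊕ Fin n →₀ ℕ) : Type :=
  {M : Fin n × Fin n → ℕ // (∀ c, c ∉ S → M c = 0) ∧ (∀ s, ∑ t, M (s, t) = d (.inl s)) ∧
    ∀ t, ∑ s, M (s, t) = d (.inr t)}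

theorem supported_finite (S : Finset (Fin n × Fin n)) (d : Fin n ⊕ Fin n →₀ ℕ) :
    Finite (Supported S d) := by
  refine Finite.of_injective
    (β := Fin n × Fin n → Fin ((∑ s, d (.inl s)) + 1))
    (fun M c => ⟨M.1 c, Nat.lt_succ_of_le ?_⟩) fun M N h => Subtype.ext (funext fun c => ?_)
  · calc M.1 c ≤ ∑ t, M.1 (c.1, t) := single_le_sum (f := fun t => M.1 (c.1, t)) (fun _ _ => Nat.zero_le _) (mem_univ c.2)
      _ = d (.inl c.1) := M.2.2.1 c.1
      _ ≤ _ := single_le_sum (f := fun s => d (.inl s)) (fun _ _ => Nat.zero_le _) (mem_univ c.1)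
  · exact congrArg Fin.val (congrFun h c)

/-- The exponent of `x_i y_j`. -/
noncomputable def cellExp (c : Fin n × Fin n) : Fin n ⊕ Fin n →₀ ℕ :=
  Finsupp.single (.inl c.1) 1 + Finsupp.single (.inr c.2) 1

theorem cellExp_inl (c : Fin n × Fin n) (s : Fin n) : cellExp c (.inl s) = if c.1 = s then 1 else 0 := by
  simp [cellExp, Finsupp.single_apply]

theorem cellExp_inr (c : Fin n × Fin n) (t : Fin n) : cellExp c (.inr t) = if c.2 = t then 1 else 0 := by
  simp [cellExp, Finsupp.single_apply]

theorem row_add_single (c : Fin n × Fin n) (M : Fin n × Fin n → ℕ) (s : Fin n) :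
    ∑ t, (M + (Pi.single c 1 : Fin n × Fin n → ℕ)) (s, t) = (∑ t, M (s, t)) + cellExp c (.inl s) := by
  simp only [Pi.add_apply, sum_add_distrib, cellExp_inl]
  congr 1
  split_ifs with h
  · subst h
    rw [sum_eq_single c.2 (fun t _ ht => by simp [Pi.single_apply, Prod.ext_iff, ht]) (by simp)]
    simp
  · exact sum_eq_zero fun t _ => by simp [Pi.single_apply, Prod.ext_iff, Ne.symm h]

theorem col_add_single (c : Fin n × Fin n) (M : Fin n × Fin n → ℕ) (t : Fin n) :
    ∑ s, (M + (Pi.single c 1 : Fin n × Fin n → ℕ)) (s, t) = (∑ s, M (s, t)) + cellExp c (.inr t) := by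
  simp only [Pi.add_apply, sum_add_distrib, cellExp_inr]
  congr 1
  split_ifs with h
  · subst h
    rw [sum_eq_single c.1 (fun s _ hs => by simp [Pi.single_apply, Prod.ext_iff, hs]) (by simp)]
    simp
  · exact sum_eq_zero fun s _ => by simp [Pi.single_apply, Prod.ext_iff, Ne.symm h]

theorem card_supported_insert {S : Finset (Fin n × Fin n)} {c : Fin n × Fin n} (hc : c ∉ S)
    (d : Fin n ⊕ Fin n →₀ ℕ) :
    Nat.card (Supported (insert c S) d) = Nat.card (Supported S d) +
      if cellExp c ≤ d then Nat.card (Supported (insert c S) (d - cellExp c)) else 0 := by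
  classical
  have := supported_finite (insert c S) d
  rw [← Nat.card_congr (Equiv.sumCompl fun M : Supported (insert c S) d => M.1 c = 0), Nat.card_sum]
  congr 1
  · exact Nat.card_congr
      { toFun := fun M => ⟨M.1.1, fun a ha => by
          rcases eq_or_ne a c with rfl | h
          · exact M.2
          · exact M.1.2.1 a (by simp [h, ha]), M.1.2.2⟩
        invFun := fun M => ⟨⟨M.1, fun a ha => M.2.1 a (fun h => ha (mem_insert_of_mem h)), M.2.2⟩, M.2.1 c hc⟩
        left_inv := fun _ => rfl
        right_inv := fun _ => rfl }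
  split_ifs with hle
  · have back : ∀ M : Fin n × Fin n → ℕ, M c ≠ 0 → (M - Pi.single c 1) + Pi.single c 1 = M := by
      intro M hM
      funext a
      rcases eq_or_ne a c with rfl | h
      · simp; omega
      · simp [h]
    have key : ∀ v, d v = (d - cellExp c) v + cellExp c v := by
      intro v
      rw [Finsupp.tsub_apply]
      have := Finsupp.le_def.1 hle v
      omega
    refine Nat.card_congr
      { toFun := fun M => ⟨M.1.1 - Pi.single c 1, ?_, ?_, ?_⟩
        invFun := fun M => ⟨⟨M.1 + Pi.single c 1, ?_, ?_, ?_⟩, by simp⟩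
        left_inv := ?_
        right_inv := ?_ }
    · intro a ha
      simp [M.1.2.1 a ha]
    · intro s
      have := row_add_single c (M.1.1 - (Pi.single c 1 : Fin n × Fin n → ℕ)) s
      rw [back _ M.2, M.1.2.2.1, key] at this
      omega
    · intro t
      have := col_add_single c (M.1.1 - (Pi.single c 1 : Fin n × Fin n → ℕ)) t
      rw [back _ M.2, M.1.2.2.2, key] at this
      omega
    · intro a ha
      rw [Pi.add_apply, M.2.1 a ha, Pi.single_eq_of_ne (fun h => ha (by simp [h])), add_zero]
    · intro s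
      rw [row_add_single, M.2.2.1, ← key]
    · intro t
      rw [col_add_single, M.2.2.2, ← key]
    · intro M
      exact Subtype.ext (Subtype.ext (back _ M.2))
    · intro M
      refine Subtype.ext (funext fun a => ?_)
      simp
  · have : IsEmpty {M : Supported (insert c S) d // ¬M.1 c = 0} := by
      refine ⟨fun M => hle (Finsupp.le_def.2 fun v => ?_)⟩
      have hpos : 1 ≤ M.1.1 c := Nat.pos_of_ne_zero M.2
      rcases v with s | t
      · rw [cellExp_inl]
        split_ifs with h
        · subst h
          rw [← M.1.2.2.1 c.1]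
          exact hpos.trans (single_le_sum (f := fun t => M.1.1 (c.1, t)) (fun _ _ => Nat.zero_le _) (mem_univ c.2))
        · exact Nat.zero_le _
      · rw [cellExp_inr]
        split_ifs with h
        · subst h
          rw [← M.1.2.2.2 c.2]
          exact hpos.trans (single_le_sum (f := fun s => M.1.1 (s, c.2)) (fun _ _ => Nat.zero_le _) (mem_univ c.1))
        · exact Nat.zero_le _
    exact Nat.card_of_isEmpty

/-- The generating series of the tables supported on `S`. -/
noncomputable def series (S : Finset (Fin n × Fin n)) : MvPowerSeries (Fin n ⊕ Fin n) ℤ :=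
  fun d => (Nat.card (Supported S d) : ℤ)

theorem coeff_series (S : Finset (Fin n × Fin n)) (d : Fin n ⊕ Fin n →₀ ℕ) :
    MvPowerSeries.coeff d (series S) = (Nat.card (Supported S d) : ℤ) := rfl

theorem series_empty : series (∅ : Finset (Fin n × Fin n)) = 1 := by
  classical
  refine MvPowerSeries.ext fun d => ?_
  rw [coeff_series, MvPowerSeries.coeff_one]
  split_ifs with h
  · subst h
    have : Unique (Supported (∅ : Finset (Fin n × Fin n)) 0) :=
      { default := ⟨0, fun _ _ => rfl, by simp, by simp⟩
        uniq := fun M => Subtype.ext (funext fun c => M.2.1 c (notMem_empty _)) }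
    simp
  · have : IsEmpty (Supported (∅ : Finset (Fin n × Fin n)) d) := by
      refine ⟨fun M => h (Finsupp.ext fun v => ?_)⟩
      rcases v with s | t
      · rw [← M.2.2.1 s]; simp [M.2.1]
      · rw [← M.2.2.2 t]; simp [M.2.1]
    simp

/-- The monomial `x_i y_j`. -/
noncomputable def cell (c : Fin n × Fin n) : MvPowerSeries (Fin n ⊕ Fin n) ℤ :=
  MvPowerSeries.monomial (cellExp c) 1

theorem cell_eq (c : Fin n × Fin n) :
    cell c = MvPowerSeries.X (Sum.inl c.1) * MvPowerSeries.X (Sum.inr c.2) := by
  rw [cell, cellExp, MvPowerSeries.X_def, MvPowerSeries.X_def, MvPowerSeries.monomial_mul_monomial, mul_one]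

theorem one_sub_mul_series_insert {S : Finset (Fin n × Fin n)} {c : Fin n × Fin n} (hc : c ∉ S) :
    (1 - cell c) * series (insert c S) = series S := by
  classical
  refine MvPowerSeries.ext fun d => ?_
  rw [sub_mul, one_mul, map_sub, cell, MvPowerSeries.coeff_monomial_mul, coeff_series, coeff_series,
    card_supported_insert hc]
  split_ifs with h
  · rw [coeff_series]; push_cast; ring
  · simp [coeff_series]

theorem prod_one_sub_mul_series (S : Finset (Fin n × Fin n)) :
    (∏ c ∈ S, (1 - cell c)) * series S = 1 := by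
  classical
  induction S using Finset.induction_on with
  | empty => simp [series_empty]
  | insert c S hc ih =>
    rw [prod_insert hc, mul_comm (1 - cell c), mul_assoc, one_sub_mul_series_insert hc, ih]

theorem prod_series_single (S : Finset (Fin n × Fin n)) : ∏ c ∈ S, series {c} = series S := by
  refine left_inv_eq_right_inv (a := ∏ c ∈ S, (1 - cell c)) ?_ (prod_one_sub_mul_series S)
  rw [← prod_mul_distrib]
  exact prod_eq_one fun c _ => by
    have := prod_one_sub_mul_series {c}
    rw [prod_singleton, mul_comm] at this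
    exact this

theorem det_series_single :
    series (univ : Finset (Fin n × Fin n)) *
      ((Matrix.vandermonde fun i : Fin n => (MvPowerSeries.X (Sum.inl i) : MvPowerSeries (Fin n ⊕ Fin n) ℤ)).det *
        (Matrix.vandermonde fun i : Fin n => (MvPowerSeries.X (Sum.inr i) : MvPowerSeries (Fin n ⊕ Fin n) ℤ)).det) =
      (Matrix.of fun i j : Fin n => series {(i, j)}).det := by
  classical
  have : IsDomain (MvPowerSeries (Fin n ⊕ Fin n) ℤ) := NoZeroDivisors.to_isDomain _
  rw [← det_prod_one_sub]
  · have hC : (Matrix.of fun i j : Fin n => ∏ k ∈ univ.erase j, (1 - (MvPowerSeries.X (Sum.inl i) :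
        MvPowerSeries (Fin n ⊕ Fin n) ℤ) * MvPowerSeries.X (Sum.inr k))) =
        Matrix.of fun i j => (∏ k, (1 - cell (i, k))) * series {(i, j)} := by
      ext i j : 2
      simp only [Matrix.of_apply]
      rw [← mul_prod_erase univ _ (mem_univ j), mul_right_comm]
      have h1 : (1 - cell (i, j)) * series {(i, j)} = 1 := by
        simpa using prod_one_sub_mul_series {(i, j)}
      rw [h1, one_mul]
      simp only [cell_eq]
    rw [hC]
    refine Eq.trans (congrArg (series univ * ·)
      (Matrix.det_mul_column (fun i : Fin n => ∏ k, (1 - cell (i, k))) (Matrix.of fun i j => series {(i, j)}))) ?_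
    rw [← mul_assoc]
    have : series (univ : Finset (Fin n × Fin n)) * ∏ i : Fin n, ∏ k, (1 - cell (i, k)) = 1 := by
      rw [← Fintype.prod_prod_type', mul_comm]
      exact prod_one_sub_mul_series univ
    rw [this, one_mul]
  · intro i j h
    have := congrArg (MvPowerSeries.coeff (Finsupp.single (Sum.inr i) 1)) h
    simp only [MvPowerSeries.coeff_X, Finsupp.single_eq_single_iff] at this
    by_contra hne
    simp [hne] at this

/-- Pack two tuples into one exponent. -/
noncomputable def pack (l l' : Fin n → ℕ) : Fin n ⊕ Fin n →₀ ℕ :=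
  Finsupp.equivFunOnFinite.symm (Sum.elim l l')

@[simp] theorem pack_inl (l l' : Fin n → ℕ) (i : Fin n) : pack l l' (.inl i) = l i := rfl
@[simp] theorem pack_inr (l l' : Fin n → ℕ) (i : Fin n) : pack l l' (.inr i) = l' i := rfl

theorem card_supported_univ (l l' : Fin n → ℕ) :
    Nat.card (Supported univ (pack l l')) = Nat.card (Tables l l') :=
  Nat.card_congr
    { toFun := fun M => ⟨fun s t => M.1 (s, t), fun s => by simpa using M.2.2.1 s, fun t => by simpa using M.2.2.2 t⟩
      invFun := fun M => ⟨fun c => M.1 c.1 c.2, fun c h => absurd (mem_univ c) h,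
        fun s => by simpa using M.2.1 s, fun t => by simpa using M.2.2 t⟩
      left_inv := fun _ => rfl
      right_inv := fun _ => rfl }

theorem card_supported_graph (ρ : Equiv.Perm (Fin n)) (l l' : Fin n → ℕ) :
    Nat.card (Supported (univ.image fun i => (ρ i, i)) (pack l l')) =
      if ∀ i, l (ρ i) = l' i then 1 else 0 := by
  classical
  have hsupp : ∀ M : Supported (univ.image fun i => (ρ i, i)) (pack l l'), ∀ s t, s ≠ ρ t → M.1 (s, t) = 0 :=
    fun M s t h => M.2.1 _ (by simp [Ne.symm h])
  have hval : ∀ M : Supported (univ.image fun i => (ρ i, i)) (pack l l'), ∀ t,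
      M.1 (ρ t, t) = l' t ∧ M.1 (ρ t, t) = l (ρ t) := by
    intro M t
    constructor
    · have := M.2.2.2 t
      rw [sum_eq_single (ρ t) (fun s _ hs => hsupp M s t hs) (by simp)] at this
      simpa using this
    · have := M.2.2.1 (ρ t)
      rw [sum_eq_single t (fun t' _ ht => hsupp M _ t' (fun h => ht (ρ.injective h).symm)) (by simp)] at this
      simpa using this
  split_ifs with h
  · refine Nat.card_eq_one_iff_unique.2 ⟨⟨fun M N => Subtype.ext (funext fun c => ?_)⟩,
      ⟨⟨fun c => if c.1 = ρ c.2 then l c.1 else 0, ?_, ?_, ?_⟩⟩⟩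
    · obtain ⟨s, t⟩ := c
      rcases eq_or_ne s (ρ t) with rfl | hs
      · rw [(hval M t).1, (hval N t).1]
      · rw [hsupp M s t hs, hsupp N s t hs]
    · rintro ⟨s, t⟩ hc
      simp only [mem_image, mem_univ, true_and, Prod.mk.injEq, not_exists, not_and] at hc
      exact if_neg fun hs => hc t hs.symm rfl
    · intro s
      rw [sum_eq_single (ρ.symm s) (fun t _ ht => if_neg fun hs => ht (by have hs' : s = ρ t := hs; simp [hs'])) (by simp)]
      simp
    · intro t
      rw [sum_eq_single (ρ t) (fun s _ hs => if_neg hs) (by simp)]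
      simp [h t]
  · have : IsEmpty (Supported (univ.image fun i => (ρ i, i)) (pack l l')) :=
      ⟨fun M => h fun i => (hval M i).2.symm.trans (hval M i).1⟩
    exact Nat.card_of_isEmpty

theorem prod_X_pow (e : Fin n ⊕ Fin n →₀ ℕ) :
    ∏ v, (MvPowerSeries.X v : MvPowerSeries (Fin n ⊕ Fin n) ℤ) ^ e v = MvPowerSeries.monomial e 1 := by
  classical
  have key : ∀ s : Finset (Fin n ⊕ Fin n), ∏ v ∈ s, (MvPowerSeries.X v : MvPowerSeries (Fin n ⊕ Fin n) ℤ) ^ e v =
      MvPowerSeries.monomial (∑ v ∈ s, Finsupp.single v (e v)) 1 := by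
    intro s
    induction s using Finset.induction_on with
    | empty => simp [MvPowerSeries.monomial_zero_eq_C_apply]
    | insert a s ha ih =>
      rw [prod_insert ha, sum_insert ha, ih, MvPowerSeries.X_pow_eq, MvPowerSeries.monomial_mul_monomial, mul_one]
  rw [key univ, Finsupp.univ_sum_single]

/-- The alternating sums of table counts are orthonormal: the key identity. -/
theorem alternating_tables {l l' : Fin n → ℕ} (hl : StrictMono l) (hl' : StrictMono l') :
    ∑ κ : Equiv.Perm (Fin n), ∑ κ' : Equiv.Perm (Fin n),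
      (if (∀ i, (κ i).val ≤ l i) ∧ ∀ i, (κ' i).val ≤ l' i then
        (Equiv.Perm.sign κ : ℤ) * (Equiv.Perm.sign κ' : ℤ) *
          (Nat.card (Tables (fun i => l i - (κ i).val) (fun i => l' i - (κ' i).val)) : ℤ)
      else 0) = if l = l' then 1 else 0 := by
  classical
  have h := congrArg (MvPowerSeries.coeff (pack l l')) (det_series_single (n := n))
  have hL : ∀ κ κ' : Equiv.Perm (Fin n),
      (∏ i, (MvPowerSeries.X (Sum.inl i) : MvPowerSeries (Fin n ⊕ Fin n) ℤ) ^ (κ i).val) *
        ∏ i, (MvPowerSeries.X (Sum.inr i) : MvPowerSeries (Fin n ⊕ Fin n) ℤ) ^ (κ' i).val =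
      MvPowerSeries.monomial (pack (fun i => (κ i).val) (fun i => (κ' i).val)) 1 := by
    intro κ κ'
    rw [← prod_X_pow, Fintype.prod_sum_type]
    simp
  have hdet : ∀ v : Fin n → MvPowerSeries (Fin n ⊕ Fin n) ℤ, (Matrix.vandermonde v).det =
      ∑ κ : Equiv.Perm (Fin n), ((Equiv.Perm.sign κ : ℤ) : MvPowerSeries (Fin n ⊕ Fin n) ℤ) * ∏ i, v i ^ (κ i).val := by
    intro v
    rw [← Matrix.det_transpose, Matrix.det_apply']
    simp
  have hterm : ∀ (z : ℤ) (φ : MvPowerSeries (Fin n ⊕ Fin n) ℤ),
      MvPowerSeries.coeff (pack l l') ((z : MvPowerSeries (Fin n ⊕ Fin n) ℤ) * φ) =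
        z * MvPowerSeries.coeff (pack l l') φ := fun z φ => by
    rw [← map_intCast (MvPowerSeries.C (σ := Fin n ⊕ Fin n) (R := ℤ)), MvPowerSeries.coeff_C_mul]
    simp
  have hLHS : MvPowerSeries.coeff (pack l l') (series (univ : Finset (Fin n × Fin n)) *
      ((Matrix.vandermonde fun i : Fin n => (MvPowerSeries.X (Sum.inl i) : MvPowerSeries (Fin n ⊕ Fin n) ℤ)).det *
        (Matrix.vandermonde fun i : Fin n => (MvPowerSeries.X (Sum.inr i) : MvPowerSeries (Fin n ⊕ Fin n) ℤ)).det)) =
      ∑ κ : Equiv.Perm (Fin n), ∑ κ' : Equiv.Perm (Fin n),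
        (if (∀ i, (κ i).val ≤ l i) ∧ ∀ i, (κ' i).val ≤ l' i then
          (Equiv.Perm.sign κ : ℤ) * (Equiv.Perm.sign κ' : ℤ) *
            (Nat.card (Tables (fun i => l i - (κ i).val) (fun i => l' i - (κ' i).val)) : ℤ)
        else 0) := by
    rw [hdet, hdet, sum_mul_sum, mul_sum, map_sum]
    refine sum_congr rfl fun κ _ => ?_
    rw [mul_sum, map_sum]
    refine sum_congr rfl fun κ' _ => ?_
    rw [mul_mul_mul_comm, hL, ← Int.cast_mul, mul_left_comm, hterm, mul_comm (series _),
      MvPowerSeries.coeff_monomial_mul]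
    have hle : pack (fun i => (κ i).val) (fun i => (κ' i).val) ≤ pack l l' ↔
        (∀ i, (κ i).val ≤ l i) ∧ ∀ i, (κ' i).val ≤ l' i := by
      simp [Finsupp.le_def]
    split_ifs with h1 h2 h2
    · rw [coeff_series]
      have e : pack l l' - pack (fun i => (κ i).val) (fun i => (κ' i).val) =
          pack (fun i => l i - (κ i).val) (fun i => l' i - (κ' i).val) := by
        ext v; rcases v with s | t <;> simp
      rw [e, card_supported_univ]
      ring
    · exact absurd (hle.1 h1) h2
    · exact absurd (hle.2 h2) h1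
    · simp
  rw [hLHS] at h
  rw [h, Matrix.det_apply', map_sum]
  have hR : ∀ ρ : Equiv.Perm (Fin n), MvPowerSeries.coeff (pack l l')
      (((Equiv.Perm.sign ρ : ℤ) : MvPowerSeries (Fin n ⊕ Fin n) ℤ) *
        ∏ i, (Matrix.of fun i j : Fin n => series {(i, j)}) (ρ i) i) =
      if ∀ i, l (ρ i) = l' i then (Equiv.Perm.sign ρ : ℤ) else 0 := by
    intro ρ
    have e : ∏ i, (Matrix.of fun i j : Fin n => series {(i, j)}) (ρ i) i =
        series (univ.image fun i => (ρ i, i)) := by
      rw [← prod_series_single, prod_image (by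
        intro a _ b _ hab; exact congrArg Prod.snd hab)]
      rfl
    rw [e, hterm, coeff_series, card_supported_graph]
    split_ifs <;> simp
  simp only [hR]
  have hone : ∀ ρ : Equiv.Perm (Fin n), (∀ i, l (ρ i) = l' i) → ρ = 1 := by
    intro ρ hρ
    have hm : StrictMono ρ := fun a b hab => by
      rw [← hl.lt_iff_lt, hρ, hρ]
      exact hl' hab
    refine Equiv.ext fun i => ?_
    exact congrFun ((hm.range_inj (strictMono_id (α := Fin n))).1 (by simp [Set.range_id, ρ.surjective.range_eq])) i
  rw [sum_eq_single (1 : Equiv.Perm (Fin n)) (fun ρ _ hρ => if_neg fun h => hρ (hone ρ h)) (by simp)]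
  simp [funext_iff]

end CfsgLib.GLFlags
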