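import Mathlib
import Cfsg.Agent.Lib.GLFlags.Bruhat
import Cfsg.Agent.Lib.GLFlags.PermChar
import Cfsg.Agent.Lib.GLFlags.Series
import Cfsg.Agent.Lib.GLFlags.Degree
/-!
The alternating sums of flag permutation characters are orthonormal irreducible characters.
-/
set_option autoImplicit false

namespace CfsgLib.GLFlags

open Finset

variable {F : Type*} [Field F] {n : ℕ}

theorem classInner_unipotent [Fintype (GL (Fin n) F)] {ν ν' : Fin n → ℕ} (hm : Monotone ν) (hν : ∑ i, ν i = n)
    (hm' : Monotone ν') (hν' : ∑ i, ν' i = n) :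
    Cfsg.classInner (Cfsg.unipotentCharacterGL n F ν) (Cfsg.unipotentCharacterGL n F ν') =
      if ν = ν' then 1 else 0 := by
  classical
  set lam : Fin n → ℕ := fun i => ν i + i.val
  set lam' : Fin n → ℕ := fun i => ν' i + i.val
  have hmar : ∀ (μ : Fin n → ℕ), ∑ i, μ i = n → ∀ κ : Equiv.Perm (Fin n), (∀ i, (κ i).val ≤ μ i + i.val) →
      ∑ i, (μ i + i.val - (κ i).val) = n := fun μ hμ κ hκ => by
    rw [sum_tsub_distrib _ (fun i _ => hκ i), sum_add_distrib, hμ, Equiv.sum_comp κ (fun i : Fin n => i.val)]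
    omega
  have hU : ∀ μ : Fin n → ℕ, Cfsg.unipotentCharacterGL n F μ = ∑ κ : Equiv.Perm (Fin n),
      (if ∀ i, (κ i).val ≤ μ i + i.val then ((Equiv.Perm.sign κ : ℤ) : ℂ) else 0) •
        Cfsg.fixedPointCharacter (Cfsg.parabolicGL n F fun i => μ i + i.val - (κ i).val) := by
    intro μ
    funext g
    simp only [Cfsg.unipotentCharacterGL, Finset.sum_apply, Pi.smul_apply, smul_eq_mul, ite_mul, zero_mul]
  rw [hU ν, hU ν', CfsgLib.Characters.classInner_sum_left]
  simp only [CfsgLib.Characters.classInner_sum_right, CfsgLib.Characters.classInner_smul_left,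
    CfsgLib.Characters.classInner_smul_right, classInner_fixedPointCharacter]
  have key := alternating_tables (strictMono_lambda hm) (strictMono_lambda hm')
  have e : ((if (fun i : Fin n => ν i + i.val) = fun i => ν' i + i.val then 1 else 0 : ℤ) : ℂ) =
      if ν = ν' then 1 else 0 := by
    have : ((fun i : Fin n => ν i + i.val) = fun i => ν' i + i.val) ↔ ν = ν' :=
      ⟨fun h => funext fun i => Nat.add_right_cancel (congrFun h i), fun h => h ▸ rfl⟩
    simp only [this]
    split_ifs <;> simp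
  rw [← e, ← key]
  push_cast
  refine sum_congr rfl fun κ _ => sum_congr rfl fun κ' _ => ?_
  by_cases hκ : ∀ i, (κ i).val ≤ ν i + i.val
  · by_cases hκ' : ∀ i, (κ' i).val ≤ ν' i + i.val
    · rw [if_pos hκ, if_pos hκ', if_pos ⟨hκ, hκ'⟩,
        card_doubleCoset_parabolicGL _ _ (hmar ν hν κ hκ) (hmar ν' hν' κ' hκ')]
      simp [mul_assoc, mul_left_comm]
    · simp [hκ']
  · simp [hκ]

theorem isGeneralizedCharacter_unipotent [Finite F] (ν : Fin n → ℕ) :
    Cfsg.IsGeneralizedCharacter (GL (Fin n) F) (Cfsg.unipotentCharacterGL n F ν) := by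
  classical
  have : Cfsg.unipotentCharacterGL n F ν = ∑ κ : Equiv.Perm (Fin n),
      (((if ∀ i, (κ i).val ≤ ν i + i.val then (Equiv.Perm.sign κ : ℤ) else 0 : ℤ)) : ℂ) •
        Cfsg.fixedPointCharacter (Cfsg.parabolicGL n F fun i => ν i + i.val - (κ i).val) := by
    funext g
    rw [Cfsg.unipotentCharacterGL, Finset.sum_apply]
    refine sum_congr rfl fun κ _ => ?_
    rw [Pi.smul_apply, smul_eq_mul]
    split_ifs <;> simp
  rw [this]
  exact CfsgLib.Characters.isGeneralizedCharacter_sum _ fun κ _ =>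
    CfsgLib.Characters.isGeneralizedCharacter_intCast_smul
      (CfsgLib.Characters.isGeneralizedCharacter_of_isCharacter (isCharacter_fixedPointCharacter _)) _

theorem isIrrCharacter_unipotent [Fintype F] {ν : Fin n → ℕ} (hm : Monotone ν) (hν : ∑ i, ν i = n) :
    Cfsg.IsIrrCharacter (GL (Fin n) F) (Cfsg.unipotentCharacterGL n F ν) := by
  classical
  have : Fintype (GL (Fin n) F) := Fintype.ofFinite _
  obtain ⟨r, hr, hr'⟩ := unipotentCharacterGL_one_pos (F := F) hm hν
  refine CfsgLib.Characters.isIrrCharacter_of_generalized_norm_one (isGeneralizedCharacter_unipotent ν) ?_ ?_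
  · rw [classInner_unipotent hm hν hm hν, if_pos rfl]
  · rw [hr', Complex.ofReal_re]
    exact hr.le

end CfsgLib.GLFlags
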